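import Mathlib.GroupTheory.QuotientGroup.Basic
import Mathlib.GroupTheory.SpecificGroups.Cyclic
import Mathlib.GroupTheory.OrderOfElement
import Mathlib.Data.Nat.Prime.Basic
import Mathlib.Data.Set.Card
import Mathlib.RingTheory.IntegralDomain
import Mathlib.Tactic.Group
import Mathlib.Tactic.Linarith
import Mathlib.Tactic.Ring
import Mathlib.Tactic.LinearCombination
import Mathlib.Algebra.Group.Subgroup.Finite

/-!
# Orbits of an abelian group normalised by an automorphism of coprime order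
-/

set_option autoImplicit false

namespace CfsgLib.NoDiv

section Twist

variable {A : Type*} [CommGroup A] [Finite A]

/-- An element whose norm lies in `T` is, modulo `T`, a value of `u ↦ u / σ u`. -/
theorem exists_div_mem (σ : A ≃* A) {s : ℕ} (hs : s.Coprime (Nat.card A)) (T : Subgroup A) {g : A}
    (hg : ∏ i ∈ Finset.range s, σ^[i] g ∈ T) : ∃ h : A, g * (σ h / h) ∈ T := by
  -- the values `h / σ h` form a subgroup
  let f : A →* A :=
    { toFun := fun h => h / σ h
      map_one' := by simp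
      map_mul' := fun a b => by rw [map_mul, div_mul_div_comm] }
  have hrange : ∀ i : ℕ, g / σ^[i] g ∈ f.range := by
    intro i
    induction i with
    | zero => simp
    | succ k ih =>
      have h1 : σ^[k] g / σ^[k + 1] g ∈ f.range :=
        ⟨σ^[k] g, by rw [Function.iterate_succ_apply' σ k g]; rfl⟩
      simpa using mul_mem ih h1
  have hpow : g ^ s ∈ T ⊔ f.range := by
    have e : g ^ s = (∏ i ∈ Finset.range s, σ^[i] g) * ∏ i ∈ Finset.range s, g / σ^[i] g := by
      rw [← Finset.prod_mul_distrib, Finset.prod_congr rfl (g := fun _ => g) (fun i _ => mul_div_cancel _ _),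
        Finset.prod_const, Finset.card_range]
    rw [e]
    exact mul_mem (Subgroup.mem_sup_left hg) (Subgroup.mem_sup_right (prod_mem fun i _ => hrange i))
  have hgmem : g ∈ T ⊔ f.range := by
    have h1 : orderOf g ∣ Nat.card A := orderOf_dvd_natCard g
    obtain ⟨m, hm⟩ := exists_pow_eq_self_of_coprime (hs.coprime_dvd_right h1)
    rw [← hm]
    exact pow_mem hpow m
  obtain ⟨t, ht, u, ⟨h, rfl⟩, e⟩ := Subgroup.mem_sup.1 hgmem
  refine ⟨h, ?_⟩
  rw [← e, show f h = h / σ h from rfl, mul_assoc, div_mul_div_cancel, div_self', mul_one]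
  exact ht

end Twist

/-- An abelian group acting without fixed points on a nontrivial finite abelian group is cyclic. -/
theorem isCyclic_of_fpf {A V : Type*} [CommGroup A] [Finite A] [CommGroup V] [Finite V] [Nontrivial V]
    (ρ : A →* MulAut V) (hfp : ∀ a : A, a ≠ 1 → ∀ v : V, ρ a v = v → v = 1) : IsCyclic A := by
  classical
  -- a minimal invariant subgroup
  haveI : Finite (Subgroup V) := Finite.of_injective (fun W : Subgroup V => (W : Set V)) SetLike.coe_injective
  obtain ⟨W, ⟨hW1, hWinv⟩, hmin⟩ := (Set.toFinite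
    {W : Subgroup V | W ≠ ⊥ ∧ ∀ a, ∀ w ∈ W, ρ a w ∈ W}).exists_minimal
    ⟨⊤, top_ne_bot, fun _ _ _ => Subgroup.mem_top _⟩
  let e : A →* Monoid.End W :=
    { toFun := fun a =>
        { toFun := fun w => ⟨ρ a w, hWinv a _ w.2⟩
          map_one' := Subtype.ext (map_one (ρ a))
          map_mul' := fun x y => Subtype.ext (map_mul (ρ a) _ _) }
      map_one' := MonoidHom.ext fun w => Subtype.ext (by show ρ 1 (w : V) = w; rw [map_one]; rfl)
      map_mul' := fun a b => MonoidHom.ext fun w => Subtype.ext (by show ρ (a * b) (w : V) = ρ a (ρ b w); rw [map_mul]; rfl) }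
  let M : A →* AddMonoid.End (Additive W) :=
    { toFun := fun a => MonoidHom.toAdditive (e a)
      map_one' := by rw [map_one]; rfl
      map_mul' := fun a b => by rw [map_mul]; rfl }
  let R : Subring (AddMonoid.End (Additive W)) := Subring.closure (Set.range M)
  -- an element of `R` killing a nonzero vector is zero
  have hcommR : ∀ f ∈ R, ∀ a, f * M a = M a * f := by
    intro f hf a
    induction hf using Subring.closure_induction with
    | mem x hx => obtain ⟨b, rfl⟩ := hx; rw [← map_mul, mul_comm, map_mul]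
    | zero => simp
    | one => simp
    | add x y _ _ hx hy => rw [add_mul, mul_add, hx, hy]
    | neg x _ hx => exact (Commute.neg_left (show Commute x _ from hx)).eq
    | mul x y _ _ hx hy => rw [mul_assoc, hy, ← mul_assoc, hx, mul_assoc]
  have hcomm2 : ∀ f ∈ R, ∀ g ∈ R, f * g = g * f := by
    intro f hf g hg
    induction hg using Subring.closure_induction with
    | mem x hx => obtain ⟨b, rfl⟩ := hx; exact hcommR f hf b
    | zero => simp
    | one => simp
    | add x y _ _ hx hy => rw [add_mul, mul_add, hx, hy]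
    | neg x _ hx => exact (Commute.neg_right (show Commute f x from hx)).eq
    | mul x y _ _ hx hy => rw [← mul_assoc, hx, mul_assoc, hy, ← mul_assoc]
  have hker : ∀ f ∈ R, ∀ w : Additive W, w ≠ 0 → f w = 0 → f = 0 := by
    intro f hf w hw0 hw
    let U : Subgroup V :=
      { carrier := {v | ∃ hv : v ∈ W, f (Additive.ofMul ⟨v, hv⟩) = 0}
        one_mem' := ⟨W.one_mem, map_zero f⟩
        mul_mem' := fun {x y} ⟨hx, hfx⟩ ⟨hy, hfy⟩ => ⟨W.mul_mem hx hy, by
          have := map_add f (Additive.ofMul (⟨x, hx⟩ : W)) (Additive.ofMul (⟨y, hy⟩ : W))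
          rw [hfx, hfy, add_zero] at this
          exact this⟩
        inv_mem' := fun {x} ⟨hx, hfx⟩ => ⟨W.inv_mem hx, by
          have := map_neg f (Additive.ofMul (⟨x, hx⟩ : W))
          rw [hfx, neg_zero] at this
          exact this⟩ }
    have hUW : U ≤ W := fun v hv => hv.1
    have hUinv : ∀ a, ∀ v ∈ U, ρ a v ∈ U := fun a v ⟨hv, hfv⟩ => ⟨hWinv a v hv, by
      have := DFunLike.congr_fun (hcommR f hf a) (Additive.ofMul (⟨v, hv⟩ : W))
      exact this.trans (by show M a (f _) = 0; rw [hfv, map_zero])⟩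
    have hUne : U ≠ ⊥ := fun h => hw0 (by
      have : ((Additive.toMul w : W) : V) ∈ U := ⟨(Additive.toMul w).2, hw⟩
      rw [h, Subgroup.mem_bot] at this
      exact Subtype.ext this)
    have hWU : W ≤ U := hmin ⟨hUne, hUinv⟩ hUW
    refine AddMonoidHom.ext fun x => ?_
    obtain ⟨hx, hfx⟩ := hWU (Additive.toMul x).2
    exact hfx
  haveI : Nontrivial W := (Subgroup.nontrivial_iff_ne_bot W).2 hW1
  obtain ⟨w₀, hw₀⟩ := exists_ne (1 : W)
  letI : CommRing R := { (inferInstance : Ring R) with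
    mul_comm := fun a b => Subtype.ext (hcomm2 _ a.2 _ b.2) }
  haveI : Nontrivial R := ⟨0, 1, fun h => hw₀
    (DFunLike.congr_fun (congrArg Subtype.val h) (Additive.ofMul w₀)).symm⟩
  haveI : NoZeroDivisors R := ⟨fun {f g} h => by
    by_contra! hfg
    obtain ⟨w, hw⟩ : ∃ w, (g : AddMonoid.End (Additive W)) w ≠ 0 := by
      by_contra! h0
      exact hfg.2 (Subtype.ext (AddMonoidHom.ext h0))
    exact hfg.1 (Subtype.ext (hker _ f.2 _ hw (DFunLike.congr_fun (congrArg Subtype.val h) w)))⟩
  haveI : IsDomain R := NoZeroDivisors.to_isDomain R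
  let ψ : A →* R :=
    { toFun := fun a => ⟨M a, Subring.subset_closure ⟨a, rfl⟩⟩
      map_one' := Subtype.ext (map_one M)
      map_mul' := fun a b => Subtype.ext (map_mul M a b) }
  refine isCyclic_of_injective_ringHom ψ ((injective_iff_map_eq_one ψ).2 fun a ha => ?_)
  by_contra h1
  have h2 := DFunLike.congr_fun (congrArg Subtype.val ha) (Additive.ofMul w₀)
  exact hw₀ (Subtype.ext (hfp a h1 w₀ (congrArg (fun z : Additive W => ((Additive.toMul z : W) : V)) h2)))

/-- `(p ^ n - 1) / (p ^ m - 1)` determines both exponents. -/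
theorem pow_sub_one_cross {p N n i j : ℕ} (hp : p.Prime) (hiN : i < n) (hj : j < N)
    (hNn : N < n) (hi0 : 0 < i) :
    (p ^ N - 1) * (p ^ i - 1) ≠ (p ^ n - 1) * (p ^ j - 1) := by
  intro h
  have h2 : ∀ k : ℕ, 1 ≤ p ^ k := fun k => Nat.one_le_pow _ _ hp.pos
  zify [h2 N, h2 n, h2 i, h2 j] at h
  have hdiv : ∀ {k l : ℕ}, k ≤ l → (p : ℤ) ^ k ∣ (p : ℤ) ^ l := fun h => pow_dvd_pow _ h
  by_cases hij : i = j
  · subst hij
    have h3 : ((p : ℤ) ^ N - 1) = (p : ℤ) ^ n - 1 := by
      refine mul_right_cancel₀ (b := (p : ℤ) ^ i - 1) ?_ h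
      have : (1 : ℕ) < p ^ i := Nat.one_lt_pow hi0.ne' hp.one_lt
      have : (1 : ℤ) < (p : ℤ) ^ i := by exact_mod_cast this
      omega
    have h4 : (p ^ N : ℕ) = p ^ n := by
      have : (p : ℤ) ^ N = (p : ℤ) ^ n := by linarith
      exact_mod_cast this
    exact hNn.ne (Nat.pow_right_injective hp.two_le h4)
  have hnot : ∀ k : ℕ, ¬ (p : ℤ) ^ (k + 1) ∣ (p : ℤ) ^ k := fun k hd => by
    have : p ^ (k + 1) ∣ p ^ k := by exact_mod_cast hd
    have := (Nat.pow_dvd_pow_iff_le_right hp.one_lt).1 this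
    omega
  have e : (p : ℤ) ^ (N + i) - (p : ℤ) ^ N - (p : ℤ) ^ i =
      (p : ℤ) ^ (n + j) - (p : ℤ) ^ n - (p : ℤ) ^ j := by
    rw [pow_add, pow_add]; linear_combination h
  -- the least exponent occurs on one side only
  rcases lt_or_gt_of_ne hij with hlt | hlt
  · refine hnot i ?_
    have e1 : (p : ℤ) ^ i = (p : ℤ) ^ (N + i) - (p : ℤ) ^ N -
        ((p : ℤ) ^ (n + j) - (p : ℤ) ^ n - (p : ℤ) ^ j) := by linarith
    rw [e1]
    exact dvd_sub (dvd_sub (hdiv (by omega)) (hdiv (by omega)))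
      (dvd_sub (dvd_sub (hdiv (by omega)) (hdiv (by omega))) (hdiv (by omega)))
  · refine hnot j ?_
    have e1 : (p : ℤ) ^ j = (p : ℤ) ^ (n + j) - (p : ℤ) ^ n -
        ((p : ℤ) ^ (N + i) - (p : ℤ) ^ N - (p : ℤ) ^ i) := by linarith
    rw [e1]
    exact dvd_sub (dvd_sub (hdiv (by omega)) (hdiv (by omega)))
      (dvd_sub (dvd_sub (hdiv (by omega)) (hdiv (by omega))) (hdiv (by omega)))

section Count

variable {X : Type*} [Group X] [Finite X] {Ω : Type*} [Finite Ω]

/-- When an automorphism of order prime to the index of the kernel leaves every orbit of an abelian group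
invariant, with stabilizers centralized, the fixed points meet every orbit equally. -/
theorem card_fixed_mul (K : Subgroup X) [K.Normal] (hcomm : ∀ g h : X, g * h * g⁻¹ * h⁻¹ ∈ K)
    (σ : X ≃* X) (hσ : ∀ x, σ x ∈ K ↔ x ∈ K) {s : ℕ} (hs : s.Coprime K.index)
    (hσs : ∀ g, σ^[s] g * g⁻¹ ∈ K)
    (act : Ω → X → Ω) (h1 : ∀ ω, act ω 1 = ω) (hmul : ∀ ω g h, act ω (g * h) = act (act ω g) h)
    (hK : ∀ ω, ∀ k ∈ K, act ω k = ω) (σΩ : Ω → Ω) (heq : ∀ ω g, σΩ (act ω g) = act (σΩ ω) (σ g))
    (hiter : ∀ ω, σΩ^[s] ω = ω) (horb : ∀ ω, ∃ g, σΩ ω = act ω g)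
    (hstab : ∀ ω g, act ω g = ω → σ g * g⁻¹ ∈ K) :
    Nat.card {ω : Ω // σΩ ω = ω} * K.index =
      Nat.card Ω * Nat.card {a : X ⧸ K // ∃ g : X, (g : X ⧸ K) = a ∧ σ g * g⁻¹ ∈ K} := by
  classical
  letI : CommGroup (X ⧸ K) := { (inferInstance : Group (X ⧸ K)) with
    mul_comm := fun a b => QuotientGroup.induction_on a fun x => QuotientGroup.induction_on b fun y => by
      rw [← QuotientGroup.mk_mul, ← QuotientGroup.mk_mul, QuotientGroup.eq]
      have h := hcomm y⁻¹ x⁻¹
      simpa [mul_assoc] using h }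
  have hK' : ∀ (ω : Ω) (g g' : X), (g : X ⧸ K) = g' → act ω g = act ω g' := by
    intro ω g g' h
    have e : g' = g * (g⁻¹ * g') := by group
    rw [e, hmul, hK _ _ (QuotientGroup.eq.1 h)]
  let τ : X ⧸ K ≃* X ⧸ K := QuotientGroup.congr K K σ (by
    refine le_antisymm ?_ fun x hx => ⟨σ.symm x, (hσ _).1 (by simpa using hx), by simp⟩
    rintro _ ⟨x, hx, rfl⟩
    exact (hσ x).2 hx)
  have hτ : ∀ g : X, τ (g : X ⧸ K) = ((σ g : X) : X ⧸ K) := fun g => rfl
  let actA : Ω → X ⧸ K → Ω := fun ω a => act ω a.out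
  have hA : ∀ (ω : Ω) (g : X), actA ω (g : X ⧸ K) = act ω g := fun ω g => hK' ω _ _ (QuotientGroup.out_eq' _)
  have hAmul : ∀ ω a b, actA ω (a * b) = actA (actA ω a) b := fun ω a b => by
    induction a using QuotientGroup.induction_on with
    | H g => induction b using QuotientGroup.induction_on with
      | H h => rw [← QuotientGroup.mk_mul, hA, hA, hA, hmul]
  have hAone : ∀ ω, actA ω 1 = ω := fun ω => by rw [← QuotientGroup.mk_one, hA, h1]
  have hAeq : ∀ ω a, σΩ (actA ω a) = actA (σΩ ω) (τ a) := fun ω a => by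
    induction a using QuotientGroup.induction_on with
    | H g => rw [hA, heq, hτ, hA]
  have hAstab : ∀ ω a, actA ω a = ω → τ a = a := fun ω a => by
    induction a using QuotientGroup.induction_on with
    | H g =>
      intro h
      rw [hA] at h
      rw [hτ, eq_comm, QuotientGroup.eq]
      exact Subgroup.Normal.mem_comm ‹K.Normal› (hstab ω g h)
  -- every orbit has a fixed point
  have hfix : ∀ ω, ∃ a, σΩ (actA ω a) = actA ω a := by
    intro ω
    obtain ⟨g, hg⟩ := horb ω
    let T : Subgroup (X ⧸ K) :=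
      { carrier := {a | actA ω a = ω}
        one_mem' := hAone ω
        mul_mem' := fun {a b} (ha : actA ω a = ω) (hb : actA ω b = ω) => by
          show actA ω (a * b) = ω
          rw [hAmul, ha, hb]
        inv_mem' := fun {a} (ha : actA ω a = ω) => by
          show actA ω a⁻¹ = ω
          conv_lhs => rw [← ha]
          rw [← hAmul, mul_inv_cancel, hAone] }
    have hN : ∀ i : ℕ, σΩ^[i] ω = actA ω (∏ j ∈ Finset.range i, τ^[j] (g : X ⧸ K)) := by
      intro i
      induction i with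
      | zero => simpa using (hAone ω).symm
      | succ k ih =>
        rw [Function.iterate_succ_apply', ih, hAeq, hg, ← hA ω g, ← hAmul, Finset.prod_range_succ',
          map_prod, mul_comm]
        simp only [Function.iterate_succ_apply', Function.iterate_zero_apply]
    have hT : (∏ j ∈ Finset.range s, τ^[j] (g : X ⧸ K)) ∈ T := (hN s).symm.trans (hiter ω)
    rw [Subgroup.index_eq_card] at hs
    obtain ⟨h, hh⟩ := exists_div_mem τ hs T hT
    refine ⟨h, ?_⟩
    rw [hAeq, hg, ← hA ω g, ← hAmul]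
    have e : (g : X ⧸ K) * τ h = ((g : X ⧸ K) * (τ h / h)) * h := by
      rw [mul_assoc, div_mul_cancel]
    rw [e, hAmul, show actA ω ((g : X ⧸ K) * (τ h / h)) = ω from hh]
  have hτs : ∀ a : X ⧸ K, τ^[s] a = a := fun a => by
    induction a using QuotientGroup.induction_on with
    | H g =>
      have e : ∀ i : ℕ, τ^[i] (g : X ⧸ K) = ((σ^[i] g : X) : X ⧸ K) := fun i => by
        induction i with
        | zero => rfl
        | succ k ih => rw [Function.iterate_succ_apply', ih, hτ, Function.iterate_succ_apply']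
      rw [e, eq_comm, QuotientGroup.eq]
      exact Subgroup.Normal.mem_comm ‹K.Normal› (hσs g)
  -- fixed points of one orbit differ by fixed group elements
  have hdiff : ∀ w c, σΩ w = w → σΩ (actA w c) = actA w c → τ c = c := by
    intro w c hw h2
    rw [hAeq, hw] at h2
    have h3 : actA w (τ c * c⁻¹) = w := by rw [hAmul, h2, ← hAmul, mul_inv_cancel, hAone]
    have h4 := hAstab w _ h3
    have hfixd : ∀ i : ℕ, τ^[i] c = (τ c * c⁻¹) ^ i * c := fun i => by
      induction i with
      | zero => simp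
      | succ k ih =>
        rw [Function.iterate_succ_apply', ih, map_mul, map_pow, h4, pow_succ, mul_assoc,
          inv_mul_cancel_right]
    have h5 := hτs c
    rw [hfixd, mul_eq_right] at h5
    have hcop : Nat.Coprime s (orderOf (τ c * c⁻¹)) := by
      refine hs.coprime_dvd_right ?_
      rw [Subgroup.index_eq_card]
      exact orderOf_dvd_natCard _
    exact mul_inv_eq_one.1 (orderOf_eq_one_iff.1
      (Nat.eq_one_of_dvd_coprimes hcop (orderOf_dvd_of_pow_eq_one h5) dvd_rfl))
  -- fibres of `(a, ω) ↦ ω a`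
  let C := {a : X ⧸ K // τ a = a}
  have hC : Nat.card {a : X ⧸ K // ∃ g : X, (g : X ⧸ K) = a ∧ σ g * g⁻¹ ∈ K} = Nat.card C := by
    refine Nat.card_congr (Equiv.subtypeEquivRight fun a => ⟨?_, fun h => ?_⟩)
    · rintro ⟨g, rfl, hg⟩
      rw [hτ, eq_comm, QuotientGroup.eq]
      exact Subgroup.Normal.mem_comm ‹K.Normal› hg
    · induction a using QuotientGroup.induction_on with
      | H g =>
        rw [hτ, eq_comm, QuotientGroup.eq] at h
        exact ⟨g, rfl, Subgroup.Normal.mem_comm ‹K.Normal› h⟩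
  choose a ha using hfix
  rw [hC, Subgroup.index_eq_card, ← Nat.card_prod, ← Nat.card_prod]
  refine Nat.card_congr
    { toFun := fun p => ⟨actA p.1.1 p.2, ⟨p.2 * a (actA p.1.1 p.2),
        hdiff p.1.1 _ p.1.2 (by rw [hAmul]; exact ha _)⟩⟩
      invFun := fun p => ⟨⟨actA p.1 (a p.1 * p.2.1⁻¹), by
        rw [hAmul, hAeq, ha, map_inv, p.2.2]⟩, (a p.1)⁻¹ * p.2.1⟩
      left_inv := ?_
      right_inv := ?_ }
  · rintro ⟨⟨w, hw⟩, b⟩
    simp only [Prod.mk.injEq, Subtype.mk.injEq]
    refine ⟨?_, by rw [mul_comm b, inv_mul_cancel_left]⟩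
    rw [← hAmul, mul_inv_rev, mul_inv_cancel_left, mul_inv_cancel, hAone]
  · rintro ⟨ω, c, hc⟩
    have e : actA (actA ω (a ω * c⁻¹)) ((a ω)⁻¹ * c) = ω := by
      rw [← hAmul]
      have : a ω * c⁻¹ * ((a ω)⁻¹ * c) = 1 := by
        rw [mul_comm (a ω) c⁻¹, mul_assoc, mul_inv_cancel_left, inv_mul_cancel]
      rw [this, hAone]
    refine Prod.ext e (Subtype.ext ?_)
    show (a ω)⁻¹ * c * a (actA (actA ω (a ω * c⁻¹)) ((a ω)⁻¹ * c)) = c
    rw [e, mul_right_comm, inv_mul_cancel, one_mul]

end Count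

end CfsgLib.NoDiv
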