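import Cfsg.Agent.Lib.CharDegree.NoDiv.Regular
import Cfsg.Agent.S4456
import Mathlib.GroupTheory.Solvable
import Mathlib.GroupTheory.Sylow

/-!
# The normal complement, and abelian Sylow subgroups
-/

set_option autoImplicit false

namespace CfsgLib.NoDiv

open CfsgLib.Char CfsgLib.CharDegree CfsgLib.CharExt CfsgLib.RelGraph
attribute [local instance 10000] MonoidHom.instCommGroup
attribute [-instance] MonoidHom.instPow MonoidHom.instInv MonoidHom.instDiv MonoidHom.mul MonoidHom.instZPow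
attribute [local instance 20000] homOne

open scoped Classical

/-- A nonabelian solvable group has a nontrivial abelian normal subgroup inside its derived subgroup. -/
theorem exists_abelian_le_commutator {H : Type*} [Group H] [Group.IsSolvable H] (h : commutator H ≠ ⊥) :
    ∃ W : Subgroup H, W.Normal ∧ W ≠ ⊥ ∧ W ≤ commutator H ∧ ∀ a ∈ W, ∀ b ∈ W, a * b = b * a := by
  have hex : ∃ n, derivedSeries H n = ⊥ := (isSolvable_def H).1 inferInstance
  set n := Nat.find hex with hn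
  have h2 : 2 ≤ n := by
    by_contra hlt
    have h1 : n ≤ 1 := by omega
    exact h (le_bot_iff.1 ((derivedSeries_one H).symm.le.trans
      ((derivedSeries_antitone H h1).trans (Nat.find_spec hex).le)))
  refine ⟨derivedSeries H (n - 1), derivedSeries_normal H _, Nat.find_min hex (by omega),
    (derivedSeries_antitone H (by omega : 1 ≤ n - 1)).trans (derivedSeries_one H).le, fun a ha b hb => ?_⟩
  have h3 : derivedSeries H (n - 1 + 1) = ⊥ := by
    rw [show n - 1 + 1 = n by omega]; exact Nat.find_spec hex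
  rw [derivedSeries_succ] at h3
  exact commutatorElement_eq_one_iff_mul_comm.1
    (Subgroup.mem_bot.1 (h3 ▸ Subgroup.commutator_mem_commutator ha hb))

variable {X : Type*} [Group X] [Finite X] {S : Setup X}

namespace Frob

variable (F : Frob S)

theorem exists_complement :
    ∃ R : Subgroup F.M, R.Normal ∧ (Nat.card R).Coprime F.p ∧ ∃ k : ℕ, R.index = F.p ^ k :=
  Cfsg.Agent.S4456.result F.p F.hp fun χ hχ => F.dvd_degree hχ

variable {F}

/-- Data of the normal complement. -/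
structure IsCompl' (F : Frob S) (R : Subgroup F.M) : Prop where
  normal : R.Normal
  coprime : (Nat.card R).Coprime F.p
  index : ∃ k : ℕ, R.index = F.p ^ k

variable {R : Subgroup F.M} (hR : IsCompl' F R)
include hR

theorem pow_mem_compl : ∃ k, ∀ m : F.M, m ^ F.p ^ k ∈ R := by
  haveI := hR.normal
  obtain ⟨k, hk⟩ := hR.index
  exact ⟨k, fun m => hk ▸ Subgroup.pow_index_mem R m⟩

theorem eq_one_of_pow {r : F.M} (hr : r ∈ R) {j : ℕ} (h : r ^ F.p ^ j = 1) : r = 1 := by
  have h1 : orderOf (⟨r, hr⟩ : R) ∣ Nat.card R := orderOf_dvd_natCard _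
  rw [Subgroup.orderOf_mk] at h1
  exact orderOf_eq_one_iff.1 (Nat.eq_one_of_dvd_coprimes (hR.coprime.pow_right j) h1
    (orderOf_dvd_of_pow_eq_one h))

theorem map_mem_compl (e : F.M ≃* F.M) {r : F.M} (hr : r ∈ R) : e r ∈ R := by
  haveI := hR.normal
  obtain ⟨k, hk⟩ := pow_mem_compl hR
  have h1 : ((e r : F.M) : F.M ⧸ R) ^ F.p ^ k = 1 := by
    rw [← QuotientGroup.mk_pow, QuotientGroup.eq_one_iff]; exact hk _
  have h2 : ((e r : F.M) : F.M ⧸ R) ^ Nat.card R = 1 := by
    have h3 : r ^ Nat.card R = 1 := congrArg Subtype.val (pow_card_eq_one' (x := (⟨r, hr⟩ : R)))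
    rw [← QuotientGroup.mk_pow, ← map_pow, h3, map_one, QuotientGroup.mk_one]
  exact (QuotientGroup.eq_one_iff _).1 (orderOf_eq_one_iff.1 (Nat.eq_one_of_dvd_coprimes
    (hR.coprime.pow_right k) (orderOf_dvd_of_pow_eq_one h2) (orderOf_dvd_of_pow_eq_one h1)))

theorem eq_one_on_compl {l : F.M →* ℂˣ} (hl : l ∈ F.V) {r : F.M} (hr : r ∈ R) : l r = 1 := by
  obtain ⟨j, hj⟩ := hl.1
  have h1 : l r ^ F.p ^ j = 1 := by rw [← MonoidHom.pow_apply, hj, MonoidHom.one_apply]
  have h2 : l r ^ Nat.card R = 1 := by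
    have h3 : r ^ Nat.card R = 1 := congrArg Subtype.val (pow_card_eq_one' (x := (⟨r, hr⟩ : R)))
    rw [← map_pow, h3, map_one]
  exact orderOf_eq_one_iff.1 (Nat.eq_one_of_dvd_coprimes
    (hR.coprime.pow_right j) (orderOf_dvd_of_pow_eq_one h2) (orderOf_dvd_of_pow_eq_one h1))

/-- A `p`-element moved by a regular linear character centralizes no commutator. -/
theorem eq_one_of_commute (hder : commutator F.M ≤ R) {y c : F.M} {j : ℕ} (hy : y ^ F.p ^ j = 1)
    {l : F.M →* ℂˣ} (hl : l ∈ F.V) (hly : l y ≠ 1) (hc : c ∈ commutator F.M) (hcy : Commute y c) :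
    c = 1 := by
  haveI := Fintype.ofFinite F.M
  have hlc : ∀ μ : F.M →* ℂˣ, μ c = 1 := fun μ =>
    MonoidHom.mem_ker.1 (Abelianization.commutator_subset_ker μ hc)
  have hconj : IsConj y (y * c) := isConj_of_forall_irr fun χ => by
    by_cases h1 : Cfsg.charDegree (χ : F.M → ℂ) = 1
    · obtain ⟨μ, hμ⟩ := exists_hom_of_degree_one χ h1
      simp [hμ, hlc μ]
    · rw [eq_zero_of_twist (F.twist_eq_self h1 hl) hly,
        eq_zero_of_twist (F.twist_eq_self h1 hl) (by rw [map_mul, hlc l, mul_one]; exact hly)]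
  obtain ⟨u, hu⟩ := isConj_iff.1 hconj
  have h2 : (y * c) ^ F.p ^ j = 1 := by rw [← hu, conj_pow, hy, mul_one, mul_inv_cancel]
  rw [hcy.mul_pow, hy, one_mul] at h2
  exact eq_one_of_pow hR (hder hc) h2

/-- When the Sylow subgroups of the kernel are abelian, so is the kernel. -/
theorem comm_of_commutator_le [Group.IsSolvable X] (hder : commutator F.M ≤ R) :
    ∀ a b : F.M, a * b = b * a := by
  haveI := Fact.mk F.hp
  haveI := hR.normal
  by_contra hne
  push Not at hne
  obtain ⟨a₀, b₀, hab₀⟩ := hne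
  have hne' : commutator F.M ≠ ⊥ := fun h => hab₀ (commutatorElement_eq_one_iff_mul_comm.1
    (Subgroup.mem_bot.1 (h ▸ Subgroup.commutator_mem_commutator (Subgroup.mem_top a₀) (Subgroup.mem_top b₀))))
  obtain ⟨W, hWn, hW1, hWD, hWab⟩ := exists_abelian_le_commutator hne'
  obtain ⟨P⟩ : Nonempty (Sylow F.p F.M) := inferInstance
  have hPab : ∀ a ∈ (P : Subgroup F.M), ∀ b ∈ (P : Subgroup F.M), a * b = b * a := fun a ha b hb => by
    obtain ⟨j, hj⟩ := P.2 ⟨_, Subgroup.mul_mem _ (Subgroup.mul_mem _ (Subgroup.mul_mem _ ha hb)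
      (Subgroup.inv_mem _ ha)) (Subgroup.inv_mem _ hb)⟩
    have h1 := eq_one_of_pow hR (r := a * b * a⁻¹ * b⁻¹)
      (hder (Subgroup.commutator_mem_commutator (Subgroup.mem_top a) (Subgroup.mem_top b)))
      (congrArg Subtype.val hj)
    rwa [mul_inv_eq_one, mul_inv_eq_iff_eq_mul] at h1
  have hsup : (P : Subgroup F.M) ⊔ R = ⊤ := by
    obtain ⟨k, hk⟩ := hR.index
    rw [← Subgroup.index_eq_one]
    exact Nat.eq_one_of_dvd_coprimes
      (((F.hp.coprime_iff_not_dvd).2 P.not_dvd_index).symm.pow_right k)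
      (Subgroup.index_dvd_of_le le_sup_left) (hk ▸ Subgroup.index_dvd_of_le le_sup_right)
  -- a subgroup of the Sylow subgroup maximal with a fixed point
  obtain ⟨u₀, hu₀, hu₀1⟩ : ∃ u ∈ W, u ≠ 1 := by
    by_contra! h
    exact hW1 ((Subgroup.eq_bot_iff_forall W).2 h)
  obtain ⟨B, ⟨hBP, u, huW, hu1, huB⟩, hmax⟩ := (Set.toFinite
    {B : Subgroup F.M | B ≤ (P : Subgroup F.M) ∧ ∃ u ∈ W, u ≠ 1 ∧ ∀ b ∈ B, b * u = u * b}).exists_maximal
    ⟨⊥, bot_le, u₀, hu₀, hu₀1, fun b hb => by rw [Subgroup.mem_bot.1 hb, one_mul, mul_one]⟩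
  have hfp : ∀ y ∈ (P : Subgroup F.M), y ∉ B → ∀ v ∈ W, (∀ b ∈ B, b * v = v * b) → y * v = v * y →
      v = 1 := by
    intro y hy hyB v hv hvB hyv
    by_contra hv1
    have hmem : B ⊔ Subgroup.zpowers y ≤ B := hmax ⟨sup_le hBP ((Subgroup.zpowers_le).2 hy), v, hv, hv1,
      fun b hb => by
        have hle : B ⊔ Subgroup.zpowers y ≤ Subgroup.centralizer ({v} : Set F.M) :=
          sup_le (fun b hb => Subgroup.mem_centralizer_singleton_iff.2 (hvB b hb))
            ((Subgroup.zpowers_le).2 (Subgroup.mem_centralizer_singleton_iff.2 hyv))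
        exact Subgroup.mem_centralizer_singleton_iff.1 (hle hb)⟩ le_sup_left
    exact hyB (hmem (Subgroup.mem_sup_right (Subgroup.mem_zpowers y)))
  -- `B` lies in the kernel of the regular characters
  have hB3 : ∀ b ∈ B, ∀ l ∈ F.V, l b = 1 := fun b hb l hl => by
    by_contra hlb
    obtain ⟨j, hj⟩ := P.2 ⟨b, hBP hb⟩
    exact hu1 (eq_one_of_commute hR hder (congrArg Subtype.val hj) hl hlb (hWD huW) (huB b hb))
  -- the Sylow subgroup modulo `B` is cyclic
  let Q : Subgroup F.M := (P : Subgroup F.M)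
  letI : CommGroup Q := { (inferInstance : Group Q) with
    mul_comm := fun a b => Subtype.ext (hPab a a.2 b b.2) }
  let U : Subgroup F.M := W ⊓ Subgroup.centralizer (B : Set F.M)
  letI : CommGroup U := { (inferInstance : Group U) with
    mul_comm := fun a b => Subtype.ext (hWab a a.2.1 b b.2.1) }
  haveI : Nontrivial U := ⟨⟨u, huW, fun b hb => huB b hb⟩, 1, fun h => hu1 (congrArg Subtype.val h)⟩
  have hUinv : ∀ y ∈ Q, ∀ v ∈ U, y * v * y⁻¹ ∈ U := fun y hy v hv => ⟨hWn.conj_mem v hv.1 y, fun b hb => by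
    have h1 : b * y = y * b := hPab b (hBP hb) y hy
    have h2 : b * v = v * b := hv.2 b hb
    have h3 : b * y⁻¹ = y⁻¹ * b := hPab b (hBP hb) y⁻¹ (Q.inv_mem hy)
    have e1 : b * (y * v * y⁻¹) = (b * y) * v * y⁻¹ := by group
    have e2 : y * v * y⁻¹ * b = y * v * (y⁻¹ * b) := by group
    show b * (y * v * y⁻¹) = y * v * y⁻¹ * b
    rw [e1, e2, h1, ← h3, mul_assoc y b v, h2]
    group⟩
  let ρ : Q →* MulAut U :=
    { toFun := fun y =>
        { toFun := fun v => ⟨y * v * (y : F.M)⁻¹, hUinv y y.2 v v.2⟩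
          invFun := fun v => ⟨(y : F.M)⁻¹ * v * (y : F.M)⁻¹⁻¹, hUinv _ (Q.inv_mem y.2) v v.2⟩
          left_inv := fun v => Subtype.ext (by simp [mul_assoc])
          right_inv := fun v => Subtype.ext (by simp [mul_assoc])
          map_mul' := fun v w => Subtype.ext (by simp [mul_assoc]) }
      map_one' := MulEquiv.ext fun v => Subtype.ext (by simp)
      map_mul' := fun y y' => MulEquiv.ext fun v => Subtype.ext (by simp [mul_assoc]) }
  have hρ : B.subgroupOf Q ≤ ρ.ker := fun b hb => MonoidHom.mem_ker.2 (MulEquiv.ext fun v => Subtype.ext (by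
    show (b : F.M) * v * (b : F.M)⁻¹ = v
    rw [(v.2.2 b hb : (b : F.M) * v = v * b), mul_inv_cancel_right]))
  obtain ⟨yb, hgen⟩ := (isCyclic_of_fpf (QuotientGroup.lift _ ρ hρ) fun a ha v hv => by
    induction a using QuotientGroup.induction_on with
    | H y =>
      have hyB : (y : F.M) ∉ B := fun h => ha ((QuotientGroup.eq_one_iff y).2 h)
      have h1 : (y : F.M) * v * (y : F.M)⁻¹ = v := congrArg Subtype.val hv
      exact Subtype.ext (hfp y y.2 hyB v v.2.1 (fun b hb => v.2.2 b hb)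
        (mul_inv_eq_iff_eq_mul.1 h1))).exists_generator
  induction yb using QuotientGroup.induction_on with
  | H y₀ =>
  -- so all regular characters are determined at one element
  let H : Subgroup F.M :=
    { carrier := {m | ∃ i : ℤ, ∀ l ∈ F.V, l m = l y₀ ^ i}
      one_mem' := ⟨0, fun l _ => by simp⟩
      mul_mem' := fun {a b} ⟨i, hi⟩ ⟨i', hi'⟩ => ⟨i + i', fun l hl => by
        rw [map_mul, hi l hl, hi' l hl, zpow_add]⟩
      inv_mem' := fun {a} ⟨i, hi⟩ => ⟨-i, fun l hl => by rw [map_inv, hi l hl, zpow_neg]⟩ }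
  have hH : ∀ m, m ∈ H := by
    have hle : (P : Subgroup F.M) ⊔ R ≤ H := by
      refine sup_le (fun y hy => ?_) fun r hr => ⟨0, fun l hl => by rw [zpow_zero, eq_one_on_compl hR hl hr]⟩
      obtain ⟨i, hi⟩ := Subgroup.mem_zpowers_iff.1 (hgen ((⟨y, hy⟩ : Q) : Q ⧸ B.subgroupOf Q))
      rw [← QuotientGroup.mk_zpow, QuotientGroup.eq] at hi
      refine ⟨i, fun l hl => ?_⟩
      have h1 := hB3 _ hi l hl
      rw [map_mul Q.subtype, map_inv Q.subtype, map_zpow Q.subtype, map_mul, map_inv, map_zpow,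
        inv_mul_eq_one] at h1
      exact h1.symm
    rw [hsup] at hle
    exact fun m => hle (Subgroup.mem_top m)
  -- and the two operations commute
  obtain ⟨j, hj⟩ := hH (F.σM y₀)
  obtain ⟨l, hl, hl1⟩ := F.exists_V0_ne_one
  refine S.hKtop (eq_top_iff.2 fun g _ => S.fpf g (F.le_K ?_))
  by_contra hg
  refine hl1 (F.regular (F.V0_le_V hl) hg ?_)
  have hlV := F.V0_le_V hl
  obtain ⟨i, hi⟩ := hH (MulAut.conjNormal g y₀)
  have hdet : ∀ l₁ ∈ F.V, ∀ l₂ ∈ F.V, l₁ y₀ = l₂ y₀ → l₁ = l₂ := fun l₁ h₁ l₂ h₂ he =>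
    MonoidHom.ext fun m => by
      obtain ⟨e, he'⟩ := hH m
      rw [he' l₁ h₁, he' l₂ h₂, he]
  have hkey : cj (S.σ g) l = cj g l := by
    refine F.σh_injective (hdet _ (F.σh_mem_V (F.cj_mem_V _ hlV)) _ (F.σh_mem_V (F.cj_mem_V _ hlV)) ?_)
    rw [σh_cj]
    show cj g (F.σh l) y₀ = F.σh (cj g l) y₀
    rw [cj_apply, hi _ (F.σh_mem_V hlV), σh_apply, hj _ hlV, σh_apply, hj _ (F.cj_mem_V _ hlV), cj_apply,
      hi _ hlV, ← zpow_mul, ← zpow_mul, mul_comm]
  rw [cj_mul, hkey, ← cj_mul, mul_inv_cancel, cj_one]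

end Frob

end CfsgLib.NoDiv
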