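import Cfsg.Agent.Lib.CharDegree.RelGraph.Hub
import Cfsg.Agent.Lib.CharDegree.NoDiv.Counting
import Cfsg.Agent.Lib.CharDegree.InducedExtension
import Cfsg.Agent.Lib.CharDegree.CyclicExtend
import Cfsg.Agent.Lib.CharDegree.ItoMichler
import Cfsg.Agent.Lib.CharDegree.ThreeDegrees.Basic
import Cfsg.Agent.Lib.Char.CyclicTI.Basic
import Cfsg.Agent.Lib.Char.Exceptional.NormalInd

/-!
# Linear characters of a normal subgroup under conjugation, and characters over them
-/

set_option autoImplicit false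

namespace CfsgLib.NoDiv

open CfsgLib.Char CfsgLib.CharDegree CfsgLib.CharExt CfsgLib.RelGraph
attribute [local instance 10000] MonoidHom.instCommGroup
attribute [-instance] MonoidHom.instPow MonoidHom.instInv MonoidHom.instDiv MonoidHom.mul MonoidHom.instZPow
attribute [local instance 20000] homOne

open scoped Classical

/-- No degree above one divides a larger one. -/
def NonDiv (X : Type*) [Group X] : Prop :=
  ∀ a ∈ Cfsg.charDegrees X, ∀ b ∈ Cfsg.charDegrees X, 1 < a → a < b → ¬ a ∣ b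

variable {X : Type*} [Group X] [Finite X]

theorem degree_pos_of_mem {a : ℕ} (ha : a ∈ Cfsg.charDegrees X) : 0 < a := by
  obtain ⟨χ, rfl⟩ := ha
  exact charDegree_pos χ

theorem NonDiv.eq_of_dvd (h : NonDiv X) {a b : ℕ} (ha : a ∈ Cfsg.charDegrees X)
    (hb : b ∈ Cfsg.charDegrees X) (ha1 : 1 < a) (hd : a ∣ b) : a = b := by
  refine le_antisymm (Nat.le_of_dvd (degree_pos_of_mem hb) hd) (not_lt.1 fun hlt => h a ha b hb ha1 hlt hd)

theorem mem_charDegrees (χ : Cfsg.IrrCharacter X) : Cfsg.charDegree (χ : X → ℂ) ∈ Cfsg.charDegrees X :=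
  ⟨χ, rfl⟩

theorem linear_comm (μ : X →* ℂˣ) (x y : X) : μ (x * y * x⁻¹ * y⁻¹) = 1 := by
  rw [map_mul, map_mul, map_mul, map_inv, map_inv, mul_comm (μ x) (μ y), mul_inv_cancel_right,
    mul_inv_cancel]

theorem linear_conj (μ : X →* ℂˣ) (x y : X) : μ (x * y * x⁻¹) = μ y := by
  rw [map_mul, map_mul, map_inv, mul_comm (μ x) (μ y), mul_inv_cancel_right]

/-- Linear characters separate the points of an abelian quotient. -/
theorem exists_linear_separating (M : Subgroup X) [M.Normal]
    (hab : ∀ x y : X, x * y * x⁻¹ * y⁻¹ ∈ M) {x : X} (hx : x ∉ M) :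
    ∃ l : X →* ℂˣ, (∀ m ∈ M, l m = 1) ∧ l x ≠ 1 := by
  letI : CommGroup (X ⧸ M) := { (inferInstance : Group (X ⧸ M)) with
    mul_comm := fun a b => QuotientGroup.induction_on a fun a => QuotientGroup.induction_on b fun b => by
      rw [← QuotientGroup.mk_mul, ← QuotientGroup.mk_mul, QuotientGroup.eq]
      have h := hab b⁻¹ a⁻¹
      simpa [mul_assoc] using h }
  obtain ⟨φ, hφ⟩ := CommGroup.exists_apply_ne_one_of_hasEnoughRootsOfUnity (X ⧸ M) ℂ
    (a := (x : X ⧸ M)) (fun h => hx ((QuotientGroup.eq_one_iff x).1 h))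
  refine ⟨φ.comp (QuotientGroup.mk' M), fun m hm => ?_, hφ⟩
  rw [MonoidHom.comp_apply, QuotientGroup.mk'_apply, (QuotientGroup.eq_one_iff m).2 hm, map_one]

/-- A kernel element of an irreducible character is one of all its twists of trivial value. -/
theorem linear_eq_one_of_ker {χ : Cfsg.IrrCharacter X} {μ : X →* ℂˣ} (h : twist χ μ = χ) {x : X}
    (hx : (χ : X → ℂ) x = (χ : X → ℂ) 1) : μ x = 1 := by
  have h1 := congrFun (congrArg Subtype.val h) x
  rw [twist_apply, hx] at h1
  exact Units.ext (mul_left_cancel₀ (IsIrr.apply_one_ne_zero χ.2) (h1.trans (mul_one _).symm))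

theorem eq_zero_of_twist {χ : Cfsg.IrrCharacter X} {μ : X →* ℂˣ} (h : twist χ μ = χ) {x : X}
    (hx : μ x ≠ 1) : (χ : X → ℂ) x = 0 := by
  have h1 := congrFun (congrArg Subtype.val h) x
  rw [twist_apply] at h1
  by_contra h0
  exact hx (Units.ext (mul_left_cancel₀ h0 (h1.trans (mul_one _).symm)))

theorem twist_twist (χ : Cfsg.IrrCharacter X) (μ ν : X →* ℂˣ) :
    twist (twist χ μ) ν = twist χ (μ * ν) := irr_ext fun x => by
  simp only [twist_apply, MonoidHom.mul_apply, Units.val_mul]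
  ring

theorem twist_one (χ : Cfsg.IrrCharacter X) : twist χ (1 : X →* ℂˣ) = χ := irr_ext fun x => by
  simp [twist_apply]

/-- The linear characters fixing an irreducible character under multiplication. -/
def fixers (χ : Cfsg.IrrCharacter X) : Subgroup (X →* ℂˣ) where
  carrier := {ν | twist χ ν = χ}
  one_mem' := twist_one χ
  mul_mem' {a b} (ha : twist χ a = χ) (hb : twist χ b = χ) := by
    show twist χ (a * b) = χ
    rw [← twist_twist, ha, hb]
  inv_mem' {a} (ha : twist χ a = χ) := by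
    show twist χ a⁻¹ = χ
    conv_lhs => rw [← ha]
    rw [twist_twist, mul_inv_cancel, twist_one]

theorem mem_fixers {χ : Cfsg.IrrCharacter X} {ν : X →* ℂˣ} : ν ∈ fixers χ ↔ twist χ ν = χ := Iff.rfl

theorem fixers_twist (χ : Cfsg.IrrCharacter X) (μ : X →* ℂˣ) : fixers (twist χ μ) = fixers χ :=
  SetLike.ext fun ν => by
    have e : twist (twist χ μ) ν = twist (twist χ ν) μ := irr_ext fun x => by
      simp only [twist_apply]; ring
    rw [mem_fixers, mem_fixers, e]
    refine ⟨fun h => ?_, fun h => by rw [h]⟩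
    have h' := congrArg (fun c => twist c μ⁻¹) h
    rwa [twist_twist, twist_twist χ μ, mul_inv_cancel, twist_one, twist_one] at h'

theorem pow_charDegree_eq_one {χ : Cfsg.IrrCharacter X} {ν : X →* ℂˣ} (h : twist χ ν = χ) :
    ν ^ Cfsg.charDegree (χ : X → ℂ) = 1 := by
  have h1 := irrDet_twist χ ν
  rw [h] at h1
  exact mul_eq_right.1 h1.symm

variable {N : Subgroup X} [hN : N.Normal]

/-- Inner conjugation does nothing to linear characters. -/
theorem cj_of_mem {g : X} (hg : g ∈ N) (l : N →* ℂˣ) : cj g l = l := MonoidHom.ext fun n => by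
  rw [cj_apply]
  have e : (MulAut.conjNormal g n : N) = ⟨g, hg⟩ * n * ⟨g, hg⟩⁻¹ :=
    Subtype.ext (MulAut.conjNormal_apply g n)
  rw [e]
  exact linear_conj l _ _

theorem cj_congr {g h : X} (e : (g : X ⧸ N) = h) (l : N →* ℂˣ) : cj g l = cj h l := by
  have e' : h = g * (g⁻¹ * h) := by group
  rw [e', cj_mul, cj_of_mem (QuotientGroup.eq.1 e)]

theorem cj_inv_cj (g : X) (l : N →* ℂˣ) : cj g⁻¹ (cj g l) = l := by
  rw [← cj_mul, mul_inv_cancel, cj_one]

/-- The product of the conjugates over the quotient. -/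
noncomputable def nm : (N →* ℂˣ) →* (N →* ℂˣ) :=
  haveI := Fintype.ofFinite (X ⧸ N)
  { toFun := fun l => ∏ q : X ⧸ N, cj q.out l
    map_one' := Finset.prod_eq_one fun q _ => map_one _
    map_mul' := fun l l' => by rw [← Finset.prod_mul_distrib]; exact Finset.prod_congr rfl fun q _ => map_mul _ _ _ }

theorem nm_apply [Fintype (X ⧸ N)] (l : N →* ℂˣ) : nm l = ∏ q : X ⧸ N, cj q.out l := by
  simp only [nm, MonoidHom.coe_mk, OneHom.coe_mk]
  convert rfl

theorem cj_nm (g : X) (l : N →* ℂˣ) : cj g (nm l) = nm l := by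
  haveI := Fintype.ofFinite (X ⧸ N)
  rw [nm_apply, map_prod]
  refine Fintype.prod_equiv (Equiv.mulRight (g : X ⧸ N)) _ _ fun q => ?_
  rw [← cj_mul]
  refine cj_congr ?_ l
  rw [Equiv.coe_mulRight, QuotientGroup.mk_mul, QuotientGroup.out_eq', QuotientGroup.out_eq']

theorem nm_cj (g : X) (l : N →* ℂˣ) : nm (cj g l) = nm l := by
  haveI := Fintype.ofFinite (X ⧸ N)
  rw [nm_apply, nm_apply]
  refine Fintype.prod_equiv (Equiv.mulLeft (g : X ⧸ N)) _ _ fun q => ?_
  rw [← cj_mul]
  refine cj_congr ?_ l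
  rw [Equiv.coe_mulLeft, QuotientGroup.mk_mul, QuotientGroup.out_eq', QuotientGroup.out_eq']

theorem nm_eq_pow {l : N →* ℂˣ} (h : ∀ g : X, cj g l = l) : nm l = l ^ N.index := by
  haveI := Fintype.ofFinite (X ⧸ N)
  rw [nm_apply, Finset.prod_congr rfl fun q _ => h _, Finset.prod_const, Finset.card_univ,
    Subgroup.index_eq_card, Nat.card_eq_fintype_card]

/-- An invariant character with inertia group `T` above a cyclic quotient extends to `T`. -/
theorem exists_inertia_ext [Fintype X] (hcyc : IsCyclic (X ⧸ N)) (φ : Cfsg.IrrCharacter N) :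
    ∃ ψ : Cfsg.IrrCharacter (Clifford.inertia hN (φ : N → ℂ)),
      ExtData N (Clifford.inertia hN (φ : N → ℂ)) φ ψ := by
  set T := Clifford.inertia hN (φ : N → ℂ) with hT
  have hle : N ≤ T := Clifford.le_inertia hN (IsIrr.isClassFunction φ.2)
  let e := Subgroup.subgroupOfEquivOfLe hle
  obtain ⟨k, σ, hσ, hchar⟩ := IsIrr.comp_surjective e.toMonoidHom e.surjective φ.2
  haveI := hσ
  have hc : ∀ x, σ.character x = (φ : N → ℂ) (e x) := fun x => congrFun hchar x
  have hinv : ∀ (g : T) (n : N.subgroupOf T), σ.character (cn g n) = σ.character n := by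
    intro g n
    rw [hc, hc]
    have h := congrFun (Clifford.mem_inertia.1 g.2) (e n)
    rw [Clifford.conjFn_apply] at h
    rw [← h]
    exact congrArg (φ : N → ℂ) (Subtype.ext rfl)
  have hcyc' : IsCyclic (T ⧸ N.subgroupOf T) := by
    refine isCyclic_of_injective (QuotientGroup.map (N.subgroupOf T) N T.subtype fun _ h => h) ?_
    rw [injective_iff_map_eq_one]
    intro a
    induction a using QuotientGroup.induction_on with
    | H t =>
      intro ht
      exact (QuotientGroup.eq_one_iff t).2 ((QuotientGroup.eq_one_iff (t : X)).1 ht)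
  obtain ⟨ρ, hρ⟩ := exists_extension_of_cyclic σ hinv hcyc'
  haveI := isIrreducible_of_restrict ρ (N.subgroupOf T).subtype σ hρ
  refine ⟨⟨ρ.character, isIrrCharacter_rep ρ⟩, hN, hle, fun g => ?_, fun n => ?_⟩
  · rw [hT, Clifford.mem_inertia]
    constructor
    · intro h n n' hn
      rw [← congrFun h n, Clifford.conjFn_apply]
      exact congrArg (φ : N → ℂ) (Subtype.ext hn)
    · intro h
      exact funext fun n => h n ⟨_, hN.conj_mem n n.2 g⟩ rfl
  · show ρ.character (Subgroup.inclusion hle n) = _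
    have h1 : ρ.character ((e.symm n : N.subgroupOf T) : T) = σ.character (e.symm n) :=
      congrArg (LinearMap.trace ℂ _) (hρ (e.symm n))
    rw [hc, e.apply_symm_apply] at h1
    rw [← h1]
    exact congrArg _ (Subtype.ext rfl)

/-- An automorphism fixing a character over `θ` moves `θ` inside its orbit. -/
theorem exists_conj_eq [Fintype X] [Fintype N] (σ : X ≃* X) (σN : N ≃* N)
    (hσN : ∀ n, (σN n : X) = σ n) (θ : Cfsg.IrrCharacter N) (χ : Cfsg.IrrCharacter X)
    (hc : Cfsg.classInner (fun n : N => (χ : X → ℂ) n) (θ : N → ℂ) ≠ 0)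
    (hfix : ∀ x, (χ : X → ℂ) (σ x) = (χ : X → ℂ) x) :
    ∃ g : X, ∀ n, (θ : N → ℂ) (σN n) = (θ : N → ℂ) (MulAut.conjNormal g n) := by
  set r : N → ℂ := fun n => (χ : X → ℂ) n with hr
  let θ' : Cfsg.IrrCharacter N := ⟨fun n => (θ : N → ℂ) (σN n),
    IsIrr.comp_surjective σN.toMonoidHom σN.surjective θ.2⟩
  have h1 : Cfsg.classInner r (θ' : N → ℂ) = Cfsg.classInner r (θ : N → ℂ) := by
    rw [← Clifford.classInner_comp_equiv σN r (θ : N → ℂ)]
    refine congrArg (fun f => Cfsg.classInner f (θ' : N → ℂ)) (funext fun n => ?_)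
    simp only [hr, hσN, hfix]
  by_contra hne
  push Not at hne
  refine hc (h1 ▸ ?_)
  rw [show r = _ from Clifford.restrict_eq_smul_orbit_sum hN χ.2 θ.2 hc, classInner_smul_left,
    classInner_sum_left, Finset.sum_eq_zero, mul_zero]
  intro ψ hψ
  obtain ⟨g, -, rfl⟩ := Finset.mem_image.1 hψ
  refine classInner_irr_of_ne (χ := ⟨_, Clifford.isIrrCharacter_conjFn hN θ.2 g⟩) (ψ := θ') fun e => ?_
  obtain ⟨n, hn⟩ := hne g
  refine hn ((congrFun (congrArg Subtype.val e) n).symm.trans ?_)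
  show Clifford.conjFn hN (θ : N → ℂ) g n = _
  rw [Clifford.conjFn_apply]
  exact congrArg (θ : N → ℂ) (Subtype.ext (MulAut.conjNormal_apply g n).symm)

end CfsgLib.NoDiv
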