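import Cfsg.Agent.Lib.CharDegree.NoDiv.AbelianCase
import Cfsg.Agent.Lib.Char.Gallagher
import Mathlib.GroupTheory.PGroup
import Mathlib.GroupTheory.Nilpotent

/-!
# The kernel has abelian Sylow subgroups
-/

set_option autoImplicit false

namespace CfsgLib.NoDiv

open CfsgLib.Char CfsgLib.CharDegree CfsgLib.CharExt CfsgLib.RelGraph
attribute [local instance 10000] MonoidHom.instCommGroup
attribute [-instance] MonoidHom.instPow MonoidHom.instInv MonoidHom.instDiv MonoidHom.mul MonoidHom.instZPow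
attribute [local instance 20000] homOne

open scoped Classical

theorem card_ne_one {T : Type*} [Group T] [Finite T] : Nat.card {t : T // t ≠ 1} + 1 = Nat.card T := by
  have := Fintype.ofFinite T
  rw [Nat.card_eq_fintype_card, Nat.card_eq_fintype_card, Fintype.card_subtype_compl,
    Fintype.card_subtype_eq]
  exact Nat.sub_add_cancel Fintype.card_pos

section Scalar

variable {H : Type*} [Group H] [Finite H] {N : Subgroup H} [hN : N.Normal]

/-- An invariant linear character lies under a character that is a multiple of it. -/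
theorem exists_scalar_over (μ : N →* ℂˣ) (hinv : ∀ (x : H) (n : N), μ (MulAut.conjNormal x n) = μ n) :
    ∃ φ : Cfsg.IrrCharacter H, ∀ n : N, (φ : H → ℂ) n = (φ : H → ℂ) 1 * (μ n : ℂ) := by
  haveI := Fintype.ofFinite H
  haveI := Fintype.ofFinite N
  let θ : Cfsg.IrrCharacter N := ⟨_, isIrrCharacter_linear μ⟩
  obtain ⟨φ, hφ⟩ := CfsgLib.ThreeDegrees.exists_over N θ
  have hres := Clifford.restrict_eq_smul_orbit_sum hN φ.2 θ.2 hφ
  have hone : Finset.univ.image (Clifford.conjFn hN (θ : N → ℂ)) = {(θ : N → ℂ)} := by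
    refine Finset.eq_singleton_iff_unique_mem.2 ⟨Finset.mem_image.2 ⟨1, Finset.mem_univ _,
      Clifford.conjFn_one hN _⟩, fun ψ hψ => ?_⟩
    obtain ⟨g, -, rfl⟩ := Finset.mem_image.1 hψ
    funext n
    rw [Clifford.conjFn_apply]
    exact congrArg (fun u : ℂˣ => (u : ℂ))
      ((congrArg μ (Subtype.ext (MulAut.conjNormal_apply g n).symm)).trans (hinv g n))
  rw [hone, Finset.sum_singleton] at hres
  refine ⟨φ, fun n => ?_⟩
  have h1 := congrFun hres 1
  have h2 := congrFun hres n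
  simp only [OneMemClass.coe_one, Pi.smul_apply, smul_eq_mul, θ, map_one, Units.val_one, mul_one] at h1 h2
  rw [h2, h1]

/-- Two characters that are multiples of one linear character of a subgroup with abelian quotient are
twists of each other. -/
theorem exists_twist_of_scalar (hcomm : ∀ x y : H, x * y * x⁻¹ * y⁻¹ ∈ N) (μ : N →* ℂˣ)
    (φ φ' : Cfsg.IrrCharacter H) (hφ : ∀ n : N, (φ : H → ℂ) n = (φ : H → ℂ) 1 * (μ n : ℂ))
    (hφ' : ∀ n : N, (φ' : H → ℂ) n = (φ' : H → ℂ) 1 * (μ n : ℂ)) :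
    ∃ ν : H →* ℂˣ, (∀ n ∈ N, ν n = 1) ∧ φ' = twist φ ν := by
  haveI := Fintype.ofFinite H
  haveI := Fintype.ofFinite N
  haveI := Fintype.ofFinite (Cfsg.IrrCharacter (H ⧸ N))
  let θ : Cfsg.IrrCharacter N := ⟨_, isIrrCharacter_linear μ⟩
  have h1 : Cfsg.classInner (Cfsg.indFun N fun n : N => (φ : H → ℂ) n) (φ' : H → ℂ) ≠ 0 := by
    rw [frobenius_reciprocity N _ (IsIrr.isClassFunction φ'.2)]
    have e : ∀ χ : Cfsg.IrrCharacter H, (∀ n : N, (χ : H → ℂ) n = (χ : H → ℂ) 1 * (μ n : ℂ)) →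
        (fun n : N => (χ : H → ℂ) n) = (χ : H → ℂ) 1 • (θ : N → ℂ) := fun χ h => funext fun n => h n
    rw [e φ hφ, e φ' hφ', classInner_smul_left, classInner_smul_right, classInner_irr_self, mul_one,
      mul_ne_zero_iff]
    exact ⟨IsIrr.apply_one_ne_zero φ.2, by
      rw [← cast_irrDegree φ', map_natCast, Nat.cast_ne_zero]; exact (charDegree_pos φ').ne'⟩
  rw [Gallagher.indFun_restrict_eq_sum (IsIrr.isClassFunction φ.2), classInner_sum_left] at h1
  obtain ⟨β, -, hβ⟩ := Finset.exists_ne_zero_of_sum_ne_zero h1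
  rw [classInner_smul_left] at hβ
  have hab : ∀ a b : H ⧸ N, a * b = b * a := fun a b => QuotientGroup.induction_on a fun x =>
    QuotientGroup.induction_on b fun y => by
      rw [← QuotientGroup.mk_mul, ← QuotientGroup.mk_mul, QuotientGroup.eq]
      have h := hcomm y⁻¹ x⁻¹
      simpa [mul_assoc] using h
  obtain ⟨l, hl⟩ := exists_hom_of_degree_one β (charDegree_of_comm hab β)
  refine ⟨l.comp (QuotientGroup.mk' N), fun n hn => ?_, ?_⟩
  · rw [MonoidHom.comp_apply, QuotientGroup.mk'_apply, (QuotientGroup.eq_one_iff n).2 hn, map_one]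
  · have he : Gallagher.twistBy (φ : H → ℂ) (β : H ⧸ N → ℂ) =
        (twist φ (l.comp (QuotientGroup.mk' N)) : H → ℂ) := funext fun x => by
      rw [Gallagher.twistBy_apply, twist_apply, mul_comm, hl]
      rfl
    by_contra hne
    rw [he] at hβ
    exact hβ (by rw [classInner_irr_of_ne (fun e => hne e.symm), mul_zero])

/-- A character does not vanish at an element whose commutators lie in its kernel. -/
theorem apply_ne_zero_of_commutators (φ : Cfsg.IrrCharacter H) {y : H}
    (hy : ∀ a : H, (φ : H → ℂ) (a * y * a⁻¹ * y⁻¹) = (φ : H → ℂ) 1) : (φ : H → ℂ) y ≠ 0 := by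
  haveI := Fintype.ofFinite H
  intro h0
  have h := sum_conj_mul φ y y⁻¹
  rw [Finset.sum_congr rfl fun a _ => hy a, h0, mul_zero, zero_mul, zero_div, Finset.sum_const,
    nsmul_eq_mul, mul_eq_zero, Nat.cast_eq_zero, Finset.card_univ] at h
  exact h.elim Fintype.card_ne_zero (IsIrr.apply_one_ne_zero φ.2)

end Scalar

variable {X : Type*} [Group X] [Finite X] {S : Setup X}

namespace Frob

variable {F : Frob S}

theorem coe_σM_pow (i : ℕ) (m : F.M) : (((F.σM ^ i : MulAut F.M) m : F.M) : X) = S.σ^[i] m := by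
  induction i generalizing m with
  | zero => rfl
  | succ k ih =>
    rw [pow_succ, MulAut.mul_apply, ih, Function.iterate_succ_apply, coe_σM]

theorem σM_pow_s : (F.σM ^ S.s : MulAut F.M) = MulAut.conjNormal S.z := MulEquiv.ext fun m => Subtype.ext (by
  rw [coe_σM_pow, S.hσs, MulAut.conjNormal_apply])

variable (F)

/-- The number of fixed cosets of the automorphism. -/
noncomputable def cfix : ℕ :=
  Nat.card {a : X ⧸ F.M // ∃ g : X, (g : X ⧸ F.M) = a ∧ S.σ g * g⁻¹ ∈ F.M}

theorem cfix_pos : 0 < F.cfix := by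
  haveI : Nonempty {a : X ⧸ F.M // ∃ g : X, (g : X ⧸ F.M) = a ∧ S.σ g * g⁻¹ ∈ F.M} :=
    ⟨⟨(1 : X), 1, rfl, by simp⟩⟩
  exact Nat.card_pos

theorem cfix_lt : F.cfix < F.M.index := by
  rw [Subgroup.index_eq_card]
  obtain ⟨g, hg⟩ : ∃ g, g ∉ S.K := by
    by_contra! h
    exact S.hKtop (eq_top_iff.2 fun g _ => h g)
  refine Finite.card_subtype_lt (x := (g : X ⧸ F.M)) ?_
  rintro ⟨g', hg', h⟩
  refine hg ?_
  have h1 := S.fpf g' (F.le_K h)
  have h2 := F.le_K (QuotientGroup.eq.1 hg')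
  have := S.K.mul_mem h1 h2
  rwa [mul_inv_cancel_left] at this

/-- The counting of the points fixed in orbits left invariant. -/
theorem counting {T : Type*} [CommGroup T] [Finite T] (act : X → T →* T) (e : T ≃* T)
    (h1 : ∀ t, act 1 t = t) (hmul : ∀ g h t, act (g * h) t = act h (act g t))
    (hM : ∀ m ∈ F.M, ∀ t, act m t = t) (heq : ∀ g t, e (act (S.σ g) t) = act g (e t))
    (hiter : ∀ t, e^[S.s] t = t) (horb : ∀ t, t ≠ 1 → ∃ g, e t = act g t)
    (hstab : ∀ t, t ≠ 1 → ∀ g, act g t = t → S.σ g * g⁻¹ ∈ F.M) :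
    ∃ U : Subgroup T, (Nat.card U - 1) * F.M.index = (Nat.card T - 1) * F.cfix := by
  refine ⟨(e.symm.toMonoidHom).eqLocus (MonoidHom.id T), ?_⟩
  let Ω := {t : T // t ≠ 1}
  have hact1 : ∀ g t, t ≠ 1 → act g t ≠ 1 := fun g t ht h => ht (by
    rw [← h1 t, ← mul_inv_cancel g, hmul, h, map_one])
  let a : Ω → X → Ω := fun ω g => ⟨act g ω.1, hact1 g _ ω.2⟩
  let σΩ : Ω → Ω := fun ω => ⟨e.symm ω.1, fun h => ω.2 (by simpa using congrArg e h)⟩
  have heq' : ∀ g t, e.symm (act g t) = act (S.σ g) (e.symm t) := fun g t => by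
    rw [MulEquiv.symm_apply_eq, heq, MulEquiv.apply_symm_apply]
  have hiter' : ∀ i t, (σΩ^[i] t).1 = e.symm^[i] t.1 := fun i t => by
    induction i with
    | zero => rfl
    | succ k ih => rw [Function.iterate_succ_apply', Function.iterate_succ_apply', ← ih]
  have h := card_fixed_mul (Ω := Ω) F.M F.habA S.σ F.sigma_mem
    ((S.hs.coprime_iff_not_dvd).2 F.s_not_dvd)
    (fun g => by rw [S.hσs]; exact F.habA S.z g) a (fun ω => Subtype.ext (h1 _))
    (fun ω g g' => Subtype.ext (hmul g g' _)) (fun ω k hk => Subtype.ext (hM k hk _)) σΩ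
    (fun ω g => Subtype.ext (heq' g _))
    (fun ω => Subtype.ext (by
      rw [hiter']
      conv_lhs => rw [← hiter ω.1]
      exact (Function.LeftInverse.iterate e.symm_apply_apply S.s) ω.1))
    (fun ω => by
      obtain ⟨g, hg⟩ := horb ω.1 ω.2
      refine ⟨(S.σ g)⁻¹, Subtype.ext ?_⟩
      show e.symm ω.1 = act (S.σ g)⁻¹ ω.1
      have h2 : ω.1 = act (S.σ g) (e.symm ω.1) := by rw [← heq', ← hg, MulEquiv.symm_apply_apply]
      conv_rhs => rw [h2]
      rw [← hmul, mul_inv_cancel, h1])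
    (fun ω g hg => hstab ω.1 ω.2 g (congrArg Subtype.val hg))
  have hfix : Nat.card {ω : Ω // σΩ ω = ω} =
      Nat.card {u : ↥((e.symm.toMonoidHom).eqLocus (MonoidHom.id T)) // u ≠ 1} :=
    Nat.card_congr
      { toFun := fun ω => ⟨⟨ω.1.1, congrArg Subtype.val ω.2⟩, fun h => ω.1.2 (congrArg Subtype.val h)⟩
        invFun := fun u => ⟨⟨u.1.1, fun h => u.2 (Subtype.ext h)⟩, Subtype.ext u.1.2⟩
        left_inv := fun _ => rfl
        right_inv := fun _ => rfl }
  rw [hfix] at h
  have e1 := card_ne_one (T := ↥((e.symm.toMonoidHom).eqLocus (MonoidHom.id T)))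
  have e2 := card_ne_one (T := T)
  rw [show Nat.card ↥((e.symm.toMonoidHom).eqLocus (MonoidHom.id T)) - 1 =
    Nat.card {u : ↥((e.symm.toMonoidHom).eqLocus (MonoidHom.id T)) // u ≠ 1} by omega,
    show Nat.card T - 1 = Nat.card Ω by simp only [Ω]; omega]
  exact h

variable {F} {R : Subgroup F.M} (hR : IsCompl' F R)
include hR

theorem isR_of_trivial {ν : F.M →* ℂˣ} (h : ∀ r ∈ R, ν r = 1) : IsR F.p ν := by
  obtain ⟨k, hk⟩ := pow_mem_compl hR
  exact ⟨k, MonoidHom.ext fun m => by rw [MonoidHom.pow_apply, ← map_pow, h _ (hk m), MonoidHom.one_apply]⟩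

theorem commutator_le_compl : commutator F.M ≤ R := by
  haveI := Fact.mk F.hp
  haveI := hR.normal
  haveI := Fintype.ofFinite F.M
  by_contra hder
  set D := commutator F.M with hD
  set N1 : Subgroup F.M := R ⊔ D with hN1
  set N2 : Subgroup F.M := R ⊔ ⁅(⊤ : Subgroup F.M), D⁆ with hN2
  have hR2 : R ≤ N2 := le_sup_left
  have hcomm1 : ∀ x y : F.M, x * y * x⁻¹ * y⁻¹ ∈ N1 := fun x y => Subgroup.mem_sup_right
    (Subgroup.commutator_mem_commutator (Subgroup.mem_top x) (Subgroup.mem_top y))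
  -- both are invariant
  have hRmap : ∀ e : F.M ≃* F.M, R.map e.toMonoidHom ≤ R := fun e => by
    rintro _ ⟨r, hr, rfl⟩; exact map_mem_compl hR e hr
  have hDmap : ∀ e : F.M ≃* F.M, D.map e.toMonoidHom = D := fun e => by
    rw [hD, _root_.commutator_def, Subgroup.map_commutator, Subgroup.map_top_of_surjective _ e.surjective]
  have hc1 : ∀ e : F.M ≃* F.M, ∀ n ∈ N1, e n ∈ N1 := fun e n hn => by
    have h : N1.map e.toMonoidHom ≤ N1 := by
      rw [hN1, Subgroup.map_sup, hDmap]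
      exact sup_le_sup_right (hRmap e) _
    exact h ⟨n, hn, rfl⟩
  have hc2 : ∀ e : F.M ≃* F.M, ∀ n ∈ N2, e n ∈ N2 := fun e n hn => by
    have h : N2.map e.toMonoidHom ≤ N2 := by
      rw [hN2, Subgroup.map_sup, Subgroup.map_commutator, hDmap,
        Subgroup.map_top_of_surjective _ e.surjective]
      exact sup_le_sup_right (hRmap e) _
    exact h ⟨n, hn, rfl⟩
  haveI hN1n : N1.Normal := Subgroup.sup_normal R D
  haveI hN2n : N2.Normal := Subgroup.sup_normal R _
  have hcen : ∀ n ∈ N1, ∀ x : F.M, x * n * x⁻¹ * n⁻¹ ∈ N2 := by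
    have hZ : ∀ n, n ∈ (Subgroup.center (F.M ⧸ N2)).comap (QuotientGroup.mk' N2) ↔
        ∀ x : F.M, x * n * x⁻¹ * n⁻¹ ∈ N2 := fun n => by
      rw [Subgroup.mem_comap, Subgroup.mem_center_iff]
      constructor
      · intro h x
        rw [← QuotientGroup.eq_one_iff]
        simp only [QuotientGroup.mk_mul, QuotientGroup.mk_inv]
        rw [mul_inv_eq_one, mul_inv_eq_iff_eq_mul]
        exact h x
      · intro h q
        induction q using QuotientGroup.induction_on with
        | H x =>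
          have h1 := (QuotientGroup.eq_one_iff (N := N2) _).2 (h x)
          simp only [QuotientGroup.mk_mul, QuotientGroup.mk_inv] at h1
          rwa [mul_inv_eq_one, mul_inv_eq_iff_eq_mul] at h1
    intro n hn
    refine (hZ n).1 ((sup_le (fun r hr => ?_) (fun d hd => ?_) : N1 ≤ _) hn)
    · exact (hZ r).2 fun x => N2.mul_mem (hR2 (hR.normal.conj_mem r hr x)) (N2.inv_mem (hR2 hr))
    · exact (hZ d).2 fun x => Subgroup.mem_sup_right
        (Subgroup.commutator_mem_commutator (Subgroup.mem_top x) hd)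
  have hlt : ¬ N1 ≤ N2 := by
    intro hle
    have hnil : Group.IsNilpotent (F.M ⧸ R) := by
      refine IsPGroup.isNilpotent (p := F.p) fun q => ?_
      induction q using QuotientGroup.induction_on with
      | H m =>
        obtain ⟨k, hk⟩ := pow_mem_compl hR
        exact ⟨k, by rw [← QuotientGroup.mk_pow, QuotientGroup.eq_one_iff]; exact hk m⟩
    obtain ⟨n, hn⟩ := Subgroup.nilpotent_iff_lowerCentralSeries.1 hnil
    set π := QuotientGroup.mk' R with hπ
    have hπs : Function.Surjective π := QuotientGroup.mk'_surjective R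
    have hRbot : R.map π = ⊥ := by rw [Subgroup.map_eq_bot_iff, hπ, QuotientGroup.ker_mk']
    have hle' : D.map π ≤ ⁅D.map π, (⊤ : Subgroup (F.M ⧸ R))⁆ := by
      have h := Subgroup.map_mono (f := π) ((le_sup_right : D ≤ N1).trans hle)
      rwa [hN2, Subgroup.map_sup, hRbot, bot_sup_eq, Subgroup.map_commutator,
        Subgroup.map_top_of_surjective _ hπs, Subgroup.commutator_comm] at h
    have hall : ∀ i, D.map π ≤ (⊤ : Subgroup (F.M ⧸ R)).lowerCentralSeries i := by
      intro i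
      induction i with
      | zero => exact le_top
      | succ k ih =>
        rw [Subgroup.lowerCentralSeries_succ]
        exact hle'.trans (Subgroup.commutator_mono ih le_rfl)
    refine hder ?_
    have h := hall n
    rw [hn, le_bot_iff, Subgroup.map_eq_bot_iff, hπ, QuotientGroup.ker_mk'] at h
    exact h
  -- the characters of the central section
  let SS : Subgroup (N1 →* ℂˣ) :=
    { carrier := {μ | ∀ n : N1, (n : F.M) ∈ N2 → μ n = 1}
      one_mem' := fun _ _ => rfl
      mul_mem' := fun {a b} ha hb n hn => by rw [MonoidHom.mul_apply, ha n hn, hb n hn, one_mul]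
      inv_mem' := fun {a} ha n hn => by rw [MonoidHom.inv_apply, ha n hn, inv_one] }
  haveI : Finite (N1 →* ℂˣ) := CfsgLib.CyclicTI.finite_hom N1
  have hinner : ∀ (μ : SS) (x : F.M) (n : N1), μ.1 (MulAut.conjNormal x n) = μ.1 n := fun μ x n => by
    have h := μ.2 (MulAut.conjNormal x n * n⁻¹) (by
      simp only [Subgroup.coe_mul, Subgroup.coe_inv, MulAut.conjNormal_apply]
      exact hcen n n.2 x)
    rwa [map_mul, map_inv, mul_inv_eq_one] at h
  obtain ⟨μ₁, hμ₁⟩ : ∃ μ : SS, μ ≠ 1 := by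
    obtain ⟨a, ha, haN⟩ := SetLike.not_le_iff_exists.1 hlt
    obtain ⟨l, hl, hla⟩ := exists_linear_separating (N2.subgroupOf N1)
      (fun x y : N1 => Subgroup.mem_subgroupOf.2 (by
        simp only [Subgroup.coe_mul, Subgroup.coe_inv]
        exact hcen _ y.2 x))
      (x := (⟨a, ha⟩ : N1)) (fun h => haN (Subgroup.mem_subgroupOf.1 h))
    exact ⟨⟨l, fun n hn => hl n hn⟩, fun h => hla (by
      rw [show l = 1 from congrArg Subtype.val h, MonoidHom.one_apply])⟩
  -- over a nontrivial one every character is nonlinear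
  have hover : ∀ μ : SS, μ ≠ 1 → ∃ φ : Cfsg.IrrCharacter F.M, Cfsg.charDegree (φ : F.M → ℂ) ≠ 1 ∧
      ∀ n : N1, (φ : F.M → ℂ) n = (φ : F.M → ℂ) 1 * (μ.1 n : ℂ) := fun μ hμ => by
    obtain ⟨φ, hφ⟩ := exists_scalar_over μ.1 (hinner μ)
    refine ⟨φ, fun h1 => hμ (Subtype.ext (MonoidHom.ext fun n => ?_)), hφ⟩
    obtain ⟨l, hl⟩ := exists_hom_of_degree_one φ h1
    have hln : ∀ n : N1, μ.1 n = l n := fun n => Units.ext (by
      have h := hφ n
      simpa [hl] using h.symm)
    have hker : N1 ≤ l.ker := sup_le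
      (fun r hr => MonoidHom.mem_ker.2 (by
        rw [← hln ⟨r, Subgroup.mem_sup_left hr⟩]
        exact μ.2 _ (hR2 hr)))
      (Abelianization.commutator_subset_ker l)
    rw [hln n, MonoidHom.mem_ker.1 (hker n.2)]
    rfl
  -- precomposition
  let res : (F.M ≃* F.M) → N1 →* N1 := fun e => (e.toMonoidHom.comp N1.subtype).codRestrict N1
    fun n => hc1 e n n.2
  let pre : (F.M ≃* F.M) → SS →* SS := fun e =>
    { toFun := fun μ => ⟨μ.1.comp (res e), fun n hn => μ.2 _ (hc2 e n hn)⟩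
      map_one' := rfl
      map_mul' := fun _ _ => rfl }
  have hpre : ∀ (e e' : F.M ≃* F.M) (μ : SS), pre (e'.trans e) μ = pre e' (pre e μ) :=
    fun e e' μ => Subtype.ext (MonoidHom.ext fun n => rfl)
  have hpre_inner : ∀ (μ : SS) (x : F.M), pre (MulAut.conj x) μ = μ := fun μ x =>
    Subtype.ext (MonoidHom.ext fun n => (congrArg μ.1 (Subtype.ext (by simp [res, MulAut.conj_apply]))).trans
      (hinner μ x n))
  let act : X → SS →* SS := fun g => pre (MulAut.conjNormal g)
  have hact : ∀ g h (μ : SS), act (g * h) μ = act h (act g μ) := fun g h μ => by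
    show pre (MulAut.conjNormal (g * h)) μ = _
    rw [map_mul]
    exact hpre _ _ μ
  have hactM : ∀ m ∈ F.M, ∀ μ, act m μ = μ := fun m hm μ => by
    have e : (MulAut.conjNormal m : MulAut F.M) = MulAut.conj (⟨m, hm⟩ : F.M) :=
      MulEquiv.ext fun n => Subtype.ext (by rw [MulAut.conjNormal_apply]; rfl)
    show pre (MulAut.conjNormal m) μ = μ
    rw [e]
    exact hpre_inner μ _
  let eS : SS ≃* SS :=
    { toFun := pre F.σM
      invFun := pre F.σM.symm
      left_inv := fun μ => Subtype.ext (MonoidHom.ext fun n => congrArg μ.1 (Subtype.ext (by simp [res])))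
      right_inv := fun μ => Subtype.ext (MonoidHom.ext fun n => congrArg μ.1 (Subtype.ext (by simp [res])))
      map_mul' := fun _ _ => rfl }
  have hiterS : ∀ μ, eS^[S.s] μ = μ := by
    have h : ∀ (i : ℕ) μ, eS^[i] μ = pre (F.σM ^ i : MulAut F.M) μ := fun i μ => by
      induction i with
      | zero => exact Subtype.ext (MonoidHom.ext fun n => congrArg μ.1 (Subtype.ext rfl))
      | succ k ih =>
        rw [Function.iterate_succ_apply', ih, pow_succ]
        exact (hpre _ _ μ).symm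
    intro μ
    rw [h, σM_pow_s]
    exact hactM _ F.z_mem μ
  -- stabilizers
  have hfix : ∀ (μ : SS) (g : X) (φ : Cfsg.IrrCharacter F.M),
      (∀ n : N1, (φ : F.M → ℂ) n = (φ : F.M → ℂ) 1 * (μ.1 n : ℂ)) →
      g ∈ Clifford.inertia F.normalM (φ : F.M → ℂ) → act g μ = μ := fun μ g φ hφ hg =>
    Subtype.ext (MonoidHom.ext fun n => Units.ext (mul_left_cancel₀ (IsIrr.apply_one_ne_zero φ.2) (by
      rw [← hφ n]
      refine (hφ (res (MulAut.conjNormal g) n)).symm.trans ?_
      rw [← congrFun (Clifford.mem_inertia.1 hg) (n : F.M), Clifford.conjFn_apply]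
      exact congrArg _ (Subtype.ext (MulAut.conjNormal_apply g (n : F.M))))))
  have hstabS : ∀ μ : SS, μ ≠ 1 → ∀ g, act g μ = μ → S.σ g * g⁻¹ ∈ F.M := by
    intro μ hμ g hg
    by_cases hgM : g ∈ F.M
    · exact F.M.mul_mem ((F.sigma_mem g).2 hgM) (F.M.inv_mem hgM)
    obtain ⟨φ, hφ1, hφ⟩ := hover μ hμ
    refine F.sigma_mem_of_inertia hφ1 ?_
    let φg : Cfsg.IrrCharacter F.M := ⟨_, Clifford.isIrrCharacter_conjFn F.normalM φ.2 g⟩
    have hφg : ∀ n : N1, (φg : F.M → ℂ) n = (φg : F.M → ℂ) 1 * (μ.1 n : ℂ) := fun n => by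
      show Clifford.conjFn F.normalM (φ : F.M → ℂ) g n = Clifford.conjFn F.normalM (φ : F.M → ℂ) g 1 * _
      rw [Clifford.conjFn_apply, Clifford.conjFn_apply]
      have h1 := hφ (res (MulAut.conjNormal g) n)
      rw [show μ.1 (res (MulAut.conjNormal g) n) = μ.1 n from
        DFunLike.congr_fun (congrArg Subtype.val hg) n] at h1
      convert h1 using 2
      · exact Subtype.ext (MulAut.conjNormal_apply g (n : F.M)).symm
      · exact congrArg _ (Subtype.ext (by simp))
    obtain ⟨ν, hν1, hν⟩ := exists_twist_of_scalar hcomm1 μ.1 φ φg hφ hφg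
    have hνR : IsR F.p ν := isR_of_trivial hR fun r hr => hν1 r (Subgroup.mem_sup_left hr)
    have hconj : ∀ n, (φ : F.M → ℂ) (MulAut.conjNormal g n) = (φ : F.M → ℂ) n * (ν n : ℂ) := fun n => by
      have h1 := congrFun (congrArg Subtype.val hν) n
      rw [twist_apply] at h1
      rw [← h1]
      exact congrArg (φ : F.M → ℂ) (Subtype.ext (MulAut.conjNormal_apply g n))
    have hi : ∀ i : ℕ, ∀ n, (φ : F.M → ℂ) (MulAut.conjNormal (g ^ i) n) =
        (twist φ (ν ^ i) : F.M → ℂ) n := by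
      intro i
      induction i with
      | zero => intro n; rw [pow_zero, pow_zero, twist_one, map_one, MulAut.one_apply]
      | succ k ih =>
        intro n
        rw [pow_succ g, map_mul, MulAut.mul_apply, ih, twist_apply, hconj]
        have hd : twist φ ((cj g ν * ν⁻¹) ^ k) = φ :=
          mem_fixers.1 (pow_mem (mem_fixers.2 (F.twist_eq_self hφ1 (F.div_mem_V g hνR))) k)
        have e : ν * (cj g ν) ^ k = (cj g ν * ν⁻¹) ^ k * ν ^ (k + 1) := by
          refine MonoidHom.ext fun m => ?_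
          simp only [MonoidHom.mul_apply, MonoidHom.pow_apply, MonoidHom.inv_apply]
          rw [mul_pow, inv_pow, pow_succ, mul_assoc, inv_mul_cancel_left, mul_comm]
        have h2 : (twist φ (ν ^ (k + 1)) : F.M → ℂ) n = (twist φ (ν * (cj g ν) ^ k) : F.M → ℂ) n := by
          rw [e, ← twist_twist, hd]
        rw [h2, twist_apply, MonoidHom.mul_apply, Units.val_mul, mul_assoc]
        rw [← map_pow, cj_apply]
    set o := orderOf (g : X ⧸ F.M) with ho
    have hgo : g ^ o ∈ F.M :=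
      (QuotientGroup.eq_one_iff _).1 (by rw [QuotientGroup.mk_pow, ho, pow_orderOf_eq_one])
    have hνo : ν ^ o ∈ fixers φ := mem_fixers.2 (irr_ext fun n => by
      rw [← hi o n]
      have e : (MulAut.conjNormal (g ^ o) n : F.M) = ⟨_, hgo⟩ * n * ⟨_, hgo⟩⁻¹ :=
        Subtype.ext (MulAut.conjNormal_apply _ n)
      rw [e]
      exact IsIrr.isClassFunction φ.2 n _)
    have hνD : ν ∈ fixers φ := by
      have hcop : o.Coprime (orderOf ν) := by
        obtain ⟨k, hk⟩ := hνR
        refine Nat.Coprime.coprime_dvd_right (orderOf_dvd_of_pow_eq_one hk) (Nat.Coprime.pow_right k ?_)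
        refine ((F.hp.coprime_iff_not_dvd).2 fun hd => F.not_dvd (hd.trans ?_)).symm
        rw [ho, Subgroup.index_eq_card]
        exact orderOf_dvd_natCard _
      obtain ⟨m, hm⟩ := exists_pow_eq_self_of_coprime hcop
      exact hm ▸ pow_mem hνo m
    rw [Clifford.mem_inertia]
    exact congrArg Subtype.val (hν.trans (mem_fixers.1 hνD))
  have horbS : ∀ μ : SS, μ ≠ 1 → ∃ g, eS μ = act g μ := by
    intro μ hμ
    obtain ⟨φ, hφ1, hφ⟩ := hover μ hμ
    obtain ⟨g, hg⟩ := F.exists_sigma_conj φ (fun h => hφ1 (Nat.eq_one_of_mul_eq_one_right h))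
    refine ⟨g, Subtype.ext (MonoidHom.ext fun n => Units.ext (mul_left_cancel₀
      (IsIrr.apply_one_ne_zero φ.2) ?_))⟩
    exact (hφ (res F.σM n)).symm.trans ((hg (n : F.M)).trans (hφ (res (MulAut.conjNormal g) n)))
  have heqS : ∀ g μ, eS (act (S.σ g) μ) = act g (eS μ) := fun g μ =>
    Subtype.ext (MonoidHom.ext fun n => congrArg μ.1 (Subtype.ext (Subtype.ext (by
      simp [res, MulAut.conjNormal_apply, coe_σM]))))
  obtain ⟨US, hUS⟩ := F.counting act eS (fun μ => hactM 1 F.M.one_mem μ) hact hactM heqS hiterS horbS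
    hstabS
  -- the regular characters
  let cV : X → F.V →* F.V := fun g => ((cj g).comp F.V.subtype).codRestrict F.V fun l => F.cj_mem_V g l.2
  let σV : F.V →* F.V := (F.σh.comp F.V.subtype).codRestrict F.V fun l => F.σh_mem_V l.2
  have hσVi : Function.Injective σV := fun a b h => Subtype.ext (F.σh_injective (congrArg Subtype.val h))
  let eV : F.V ≃* F.V := MulEquiv.ofBijective σV (Finite.injective_iff_bijective.1 hσVi)
  have hiterV : ∀ l, eV^[S.s] l = l := by
    have h : ∀ (i : ℕ) (l : F.V), (eV^[i] l).1 = l.1.comp (F.σM ^ i : MulAut F.M).toMonoidHom := fun i l => by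
      induction i with
      | zero => exact MonoidHom.ext fun n => rfl
      | succ k ih =>
        rw [Function.iterate_succ_apply']
        show F.σh ((eV^[k] l).1) = _
        rw [ih, pow_succ]
        rfl
    intro l
    refine Subtype.ext ?_
    rw [h, σM_pow_s]
    exact cj_of_mem F.z_mem l.1
  obtain ⟨UV, hUV⟩ := F.counting cV eV (fun l => Subtype.ext (cj_one _))
    (fun g h l => Subtype.ext (cj_mul g h l.1)) (fun m hm l => Subtype.ext (cj_of_mem hm l.1))
    (fun g l => Subtype.ext (F.σh_cj g l.1)) hiterV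
    (fun l hl => (F.exists_sigma_conj_linear l.2 fun h => hl (Subtype.ext h)).imp
      fun g hg => Subtype.ext hg)
    (fun l hl g hg => by
      by_cases hgM : g ∈ F.M
      · exact F.M.mul_mem ((F.sigma_mem g).2 hgM) (F.M.inv_mem hgM)
      · exact absurd (Subtype.ext (F.regular l.2 hgM (congrArg Subtype.val hg))) hl)
  -- `|SS| < |V|`
  obtain ⟨l₀, hl₀, hl₀1⟩ := F.exists_V0_ne_one
  obtain ⟨g₀, hg₀⟩ := F.exists_notMem
  obtain ⟨x₀, hx₀⟩ : ∃ x₀, l₀ (MulAut.conjNormal g₀ x₀ * x₀⁻¹) ≠ 1 := by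
    by_contra! h
    refine hl₀1 (F.regular0 hl₀ hg₀ (MonoidHom.ext fun x => ?_))
    rw [cj_apply]
    exact mul_inv_eq_one.1 (by rw [← map_inv, ← map_mul]; exact h x)
  set w : F.M := MulAut.conjNormal g₀ x₀ * x₀⁻¹ with hw
  let β : SS → F.M → F.M → ℂˣ := fun μ x y => μ.1 ⟨x * y * x⁻¹ * y⁻¹, hcomm1 x y⟩
  have hβr : ∀ μ x y y', β μ x (y * y') = β μ x y * β μ x y' := fun μ x y y' => by
    simp only [β]
    rw [← hinner μ y ⟨x * y' * x⁻¹ * y'⁻¹, hcomm1 x y'⟩, ← map_mul]
    refine congrArg μ.1 (Subtype.ext ?_)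
    simp only [Subgroup.coe_mul, MulAut.conjNormal_apply]
    group
  have hβl : ∀ μ x x' y, β μ (x * x') y = β μ x' y * β μ x y := fun μ x x' y => by
    simp only [β]
    rw [← hinner μ x ⟨x' * y * x'⁻¹ * y⁻¹, hcomm1 x' y⟩, ← map_mul]
    refine congrArg μ.1 (Subtype.ext ?_)
    simp only [Subgroup.coe_mul, MulAut.conjNormal_apply]
    group
  let ℓ : SS →* (F.M →* ℂˣ) :=
    { toFun := fun μ =>
        { toFun := fun x => β μ w x
          map_one' := by
            show μ.1 _ = 1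
            exact (congrArg μ.1 (Subtype.ext (by simp))).trans (map_one μ.1)
          map_mul' := fun x y => hβr μ w x y }
      map_one' := rfl
      map_mul' := fun _ _ => rfl }
  let π : (F.M →* ℂˣ) →* (F.M →* ℂˣ) :=
    { toFun := fun l => l ^ F.M.index * (nm l)⁻¹
      map_one' := by rw [one_pow, map_one, mul_inv_cancel]
      map_mul' := fun a b => by
        rw [map_mul]
        refine MonoidHom.ext fun m => ?_
        simp only [MonoidHom.mul_apply, MonoidHom.inv_apply, MonoidHom.pow_apply, mul_pow, mul_inv]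
        exact mul_mul_mul_comm _ _ _ _ }
  have hπ : ∀ l, π l = l ^ F.M.index * (nm l)⁻¹ := fun l => rfl
  have hℓR : ∀ μ, ∀ r ∈ R, ℓ μ r = 1 := fun μ r hr => μ.2 _ (hR2 (R.mul_mem
    (hR.normal.conj_mem r hr w) (R.inv_mem hr)))
  have hπV : ∀ μ, π (ℓ μ) ∈ F.V := fun μ => by
    have h1 : IsR F.p (ℓ μ) := isR_of_trivial hR (hℓR μ)
    have h2 : IsR F.p (nm (ℓ μ)) := h1.imp fun k hk => by rw [← map_pow, hk, map_one]
    rw [hπ]
    refine ⟨(h1.pow _).mul h2.inv, ?_⟩
    rw [map_mul, map_inv, map_pow, nm_eq_pow (l := nm (ℓ μ)) (fun g => cj_nm g _), mul_inv_cancel]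
  have hwinv : ∀ l : F.M →* ℂˣ, (∀ g : X, cj g l = l) → l w = 1 := fun l hl => by
    rw [hw, map_mul, map_inv, ← cj_apply, hl, mul_inv_cancel]
  have hℓinj : ∀ μ, π (ℓ μ) = 1 → μ = 1 := by
    intro μ hμ0
    by_contra hμ
    set l := ℓ μ with hl
    rw [hπ, mul_inv_eq_one] at hμ0
    have hlR : IsR F.p l := isR_of_trivial hR (hℓR μ)
    have hlinv : ∀ g : X, cj g l = l := fun g => hlR.fix_of_pow F.hp F.not_dvd (by rw [hμ0, cj_nm])
    obtain ⟨φ, hφ1, hφ⟩ := hover μ hμ
    obtain ⟨g, hgφ, hgM⟩ := F.exists_inertia_notMem hφ1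
    have hgμ := hfix μ g φ hφ hgφ
    set w' : F.M := MulAut.conjNormal g⁻¹ w with hw'
    have hw'x : ∀ x, β μ w' x = β μ w x := fun x => by
      have h1 : β μ w (MulAut.conjNormal g x) = β μ w x := DFunLike.congr_fun (hlinv g) x
      rw [← h1]
      show μ.1 _ = μ.1 _
      rw [← DFunLike.congr_fun (congrArg Subtype.val hgμ) ⟨_, hcomm1 w' x⟩]
      refine congrArg μ.1 (Subtype.ext (Subtype.ext ?_))
      show ((MulAut.conjNormal g (w' * x * w'⁻¹ * x⁻¹) : F.M) : X) = _
      simp only [hw', MulAut.conjNormal_apply, Subgroup.coe_mul, Subgroup.coe_inv]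
      group
    set y := w'⁻¹ * w with hy
    have hy1 : ∀ x, β μ y x = 1 := fun x => by
      have h0 : β μ w'⁻¹ x * β μ w' x = 1 := by
        rw [mul_comm, ← hβl, inv_mul_cancel]
        exact (congrArg μ.1 (Subtype.ext (by simp))).trans (map_one μ.1)
      rw [hy, hβl, ← hw'x, mul_comm, h0]
    have hφy : (φ : F.M → ℂ) y ≠ 0 := apply_ne_zero_of_commutators φ fun a => by
      have h1 := hφ ⟨a * y * a⁻¹ * y⁻¹, hcomm1 a y⟩
      have h2 : μ.1 ⟨a * y * a⁻¹ * y⁻¹, hcomm1 a y⟩ = 1 := by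
        have h3 := hy1 a
        rw [← inv_eq_one, ← map_inv] at h3
        refine (congrArg μ.1 (Subtype.ext ?_)).trans h3
        simp only [Subgroup.coe_inv]
        group
      rw [h2, Units.val_one, mul_one] at h1
      exact h1
    have hνy : ∀ ν ∈ F.V, ν y = 1 := fun ν hν => by
      by_contra h
      exact hφy (eq_zero_of_twist (F.twist_eq_self hφ1 hν) h)
    -- every regular character is trivial at `w`
    let d : F.V →* F.V :=
      { toFun := fun l => ⟨cj g⁻¹ l.1 * l.1⁻¹, F.div_mem_V _ l.2.1⟩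
        map_one' := Subtype.ext (by simp)
        map_mul' := fun a b => Subtype.ext (by
          show cj g⁻¹ (a.1 * b.1) * (a.1 * b.1)⁻¹ = cj g⁻¹ a.1 * a.1⁻¹ * (cj g⁻¹ b.1 * b.1⁻¹)
          rw [map_mul]
          refine MonoidHom.ext fun m => ?_
          simp only [MonoidHom.mul_apply, MonoidHom.inv_apply, mul_inv]
          exact mul_mul_mul_comm _ _ _ _) }
    have hdi : Function.Injective d := by
      rw [injective_iff_map_eq_one]
      intro ν hν
      have h1 : cj g⁻¹ ν.1 * ν.1⁻¹ = 1 := congrArg Subtype.val hν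
      exact Subtype.ext (F.regular ν.2 (fun h => hgM (by simpa using F.M.inv_mem h)) (mul_inv_eq_one.1 h1))
    obtain ⟨ν, hν⟩ := (Finite.injective_iff_surjective.1 hdi) ⟨l₀, F.V0_le_V hl₀⟩
    refine hx₀ ?_
    have h1 : cj g⁻¹ ν.1 * ν.1⁻¹ = l₀ := congrArg Subtype.val hν
    rw [← h1, MonoidHom.mul_apply, MonoidHom.inv_apply, cj_apply, ← hw']
    have h2 := hνy ν.1 ν.2
    rw [hy, map_mul, map_inv, inv_mul_eq_one] at h2
    rw [h2, mul_inv_cancel]
  have hlt' : Nat.card SS < Nat.card F.V := by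
    have hwmem : ∀ μ, (⟨π (ℓ μ), hπV μ⟩ : F.V).1 w = 1 := fun μ => by
      show π (ℓ μ) w = 1
      have h0 : ℓ μ w = 1 := (congrArg μ.1 (Subtype.ext (by simp))).trans (map_one μ.1)
      rw [hπ, MonoidHom.mul_apply, MonoidHom.inv_apply, MonoidHom.pow_apply, h0, one_pow, one_mul,
        hwinv _ fun g => cj_nm g _, inv_one]
    refine lt_of_le_of_lt (Nat.card_le_card_of_injective
      (fun μ => (⟨⟨π (ℓ μ), hπV μ⟩, hwmem μ⟩ : {l : F.V // l.1 w = 1})) ?_)
      (Finite.card_subtype_lt (x := (⟨l₀, F.V0_le_V hl₀⟩ : F.V)) hx₀)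
    intro a b h
    have h1 : π (ℓ a) = π (ℓ b) := congrArg (fun z => z.1.1) h
    refine mul_inv_eq_one.1 (hℓinj _ ?_)
    rw [map_mul, map_inv, map_mul, map_inv, h1, mul_inv_cancel]
  -- powers of `p`
  have hpS : IsPGroup F.p SS := fun μ => by
    obtain ⟨k, hk⟩ := pow_mem_compl hR
    refine ⟨k, Subtype.ext (MonoidHom.ext fun n => ?_)⟩
    rw [Subgroup.coe_pow, MonoidHom.pow_apply, ← map_pow]
    exact μ.2 _ (hR2 (hk n))
  have hpV : IsPGroup F.p F.V := fun l => l.2.1.imp fun k hk => Subtype.ext hk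
  obtain ⟨N, hN⟩ := IsPGroup.iff_card.1 hpS
  obtain ⟨n, hn⟩ := IsPGroup.iff_card.1 hpV
  obtain ⟨j, hj⟩ := IsPGroup.iff_card.1 (hpS.to_subgroup US)
  obtain ⟨i, hi⟩ := IsPGroup.iff_card.1 (hpV.to_subgroup UV)
  rw [hN, hj] at hUS
  rw [hn, hi] at hUV
  rw [hN, hn] at hlt'
  have hp1 := F.hp.one_lt
  have hc0 := F.cfix_pos
  have hca := F.cfix_lt
  have hNn : N < n := (Nat.pow_lt_pow_iff_right hp1).1 hlt'
  have hone : ∀ k, 1 ≤ F.p ^ k := fun k => Nat.one_le_pow _ _ F.hp.pos
  have hN0 : 0 < N := by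
    refine Nat.pos_of_ne_zero fun h0 => hμ₁ ?_
    rw [h0, pow_zero] at hN
    exact (Nat.card_eq_one_iff_unique.1 hN).1.elim _ _
  have hn1 : 0 < F.p ^ n - 1 := Nat.sub_pos_of_lt (Nat.one_lt_pow (by omega) hp1)
  have hN1' : 0 < F.p ^ N - 1 := Nat.sub_pos_of_lt (Nat.one_lt_pow hN0.ne' hp1)
  have hsmall : ∀ {k m : ℕ}, 0 < F.p ^ m - 1 → (F.p ^ k - 1) * F.M.index = (F.p ^ m - 1) * F.cfix → k < m := by
    intro k m hm h
    by_contra hle
    have h1 : F.p ^ m - 1 ≤ F.p ^ k - 1 :=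
      Nat.sub_le_sub_right (Nat.pow_le_pow_right F.hp.pos (not_lt.1 hle)) 1
    have h2 := Nat.mul_le_mul_right F.M.index h1
    rw [h] at h2
    exact absurd (Nat.le_of_mul_le_mul_left h2 hm) (not_le.2 hca)
  have hi0 : 0 < i := by
    refine Nat.pos_of_ne_zero fun h0 => ?_
    rw [h0, pow_zero, Nat.sub_self, zero_mul] at hUV
    exact (Nat.mul_pos hn1 hc0).ne hUV
  refine pow_sub_one_cross F.hp (hsmall hn1 hUV) (hsmall hN1' hUS) hNn hi0 ?_
  refine Nat.eq_of_mul_eq_mul_right (show 0 < F.M.index by omega) ?_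
  rw [mul_assoc, hUV, mul_assoc, hUS]
  ring

end Frob

end CfsgLib.NoDiv
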