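import Cfsg.Agent.Lib.CharDegree.NoDiv.ClassTwoCase
import Cfsg.Agent.Lib.CharDegree.Restriction
import Cfsg.Agent.Lib.Char.Exceptional.DetExtension

/-!
# All nonlinear degrees are equal
-/

set_option autoImplicit false

namespace CfsgLib.NoDiv

open CfsgLib.Char CfsgLib.CharDegree CfsgLib.CharExt

open scoped Classical

/-- A nonabelian solvable group has a nonabelian quotient of prime power order or a Frobenius quotient with
abelian complement. -/
theorem dichotomy {G : Type*} [Group G] [Finite G] [Group.IsSolvable G] (hna : ∃ x y : G, x * y ≠ y * x) :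
    (∃ (K : Subgroup G) (p : ℕ), K.Normal ∧ p.Prime ∧ (∀ r : ℕ, r.Prime → r ∣ K.index → r = p) ∧
      ∃ x y : G, x * y * x⁻¹ * y⁻¹ ∉ K) ∨
    ∃ (M L : Subgroup G) (p : ℕ), M.Normal ∧ L.Normal ∧ p.Prime ∧ L ≤ M ∧ (∀ a ∈ M, a ^ p ∈ L) ∧
      ¬ M ≤ L ∧ (∀ a ∈ M, ∀ b ∈ M, a * b * a⁻¹ * b⁻¹ ∈ L) ∧ (∀ x y : G, x * y * x⁻¹ * y⁻¹ ∈ M) ∧
      (∀ x, x ∉ M → ∀ a ∈ M, x * a * x⁻¹ * a⁻¹ ∈ L → a ∈ L) ∧ M ≠ ⊤ := by
  obtain ⟨K, ⟨hKn, x₀, y₀, hxy⟩, hmax⟩ := (wellFounded_gt (α := Subgroup G)).has_min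
    {K : Subgroup G | K.Normal ∧ ∃ x y, x * y * x⁻¹ * y⁻¹ ∉ K}
    (by
      obtain ⟨x, y, h⟩ := hna
      refine ⟨⊥, Subgroup.normal_bot, x, y, fun h' => h ?_⟩
      rw [Subgroup.mem_bot, mul_inv_eq_one, mul_inv_eq_iff_eq_mul] at h'
      exact h')
  haveI := hKn
  have hbig : ∀ F : Subgroup G, F.Normal → K ≤ F → F ≠ K → ∀ x y, x * y * x⁻¹ * y⁻¹ ∈ F := by
    intro F hF hKF hne
    by_contra h
    push Not at h
    exact hmax F ⟨hF, h⟩ (lt_of_le_of_ne hKF (Ne.symm hne))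
  set π := QuotientGroup.mk' K with hπ
  have hπs : Function.Surjective π := QuotientGroup.mk'_surjective K
  have hπc : ∀ x y : G, π (x * y * x⁻¹ * y⁻¹) = π x * π y * (π x)⁻¹ * (π y)⁻¹ := fun x y => by
    simp only [map_mul, map_inv]
  have hbig' : ∀ F : Subgroup (G ⧸ K), F.Normal → F ≠ ⊥ → ∀ x y, x * y * x⁻¹ * y⁻¹ ∈ F := by
    intro F hF hne a b
    obtain ⟨x, rfl⟩ := hπs a
    obtain ⟨y, rfl⟩ := hπs b
    rw [← hπc]
    refine hbig (F.comap π) (hF.comap π) (fun k hk => ?_) (fun e => hne ?_) x y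
    · rw [Subgroup.mem_comap, hπ, QuotientGroup.mk'_apply, (QuotientGroup.eq_one_iff k).2 hk]
      exact F.one_mem
    · rw [← Subgroup.map_comap_eq_self_of_surjective hπs F, e, Subgroup.map_eq_bot_iff, hπ,
        QuotientGroup.ker_mk']
  set D := commutator (G ⧸ K) with hD
  have hmemD : ∀ a b : G ⧸ K, a * b * a⁻¹ * b⁻¹ ∈ D := fun a b =>
    Subgroup.commutator_mem_commutator (Subgroup.mem_top _) (Subgroup.mem_top _)
  have hDne : D ≠ ⊥ := fun h => hxy ((QuotientGroup.eq_one_iff _).1 (by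
    show π _ = 1
    rw [hπc, ← Subgroup.mem_bot, ← h]
    exact hmemD _ _))
  have hDmin : ∀ F : Subgroup (G ⧸ K), F.Normal → F ≤ D → F = ⊥ ∨ F = D := fun F hF hFD => by
    by_cases hF0 : F = ⊥
    · exact Or.inl hF0
    · refine Or.inr (le_antisymm hFD ?_)
      rw [hD, _root_.commutator_def, Subgroup.commutator_le]
      exact fun a _ b _ => hbig' F hF hF0 a b
  haveI : Group.IsSolvable (G ⧸ K) := Group.isSolvable_of_surjective hπs
  have hDab : ∀ a ∈ D, ∀ b ∈ D, a * b = b * a := by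
    have hlt := Group.IsSolvable.commutator_lt_of_ne_bot hDne
    rcases hDmin ⁅D, D⁆ inferInstance (Subgroup.commutator_le_self D) with h | h
    · intro a ha b hb
      exact commutatorElement_eq_one_iff_mul_comm.1
        (Subgroup.mem_bot.1 (h ▸ Subgroup.commutator_mem_commutator ha hb))
    · exact absurd h hlt.ne
  by_cases hZ : Subgroup.center (G ⧸ K) = ⊥
  · -- a Frobenius group
    right
    have hfp := CfsgLib.DegreeGraph.fpf_of_center_eq_bot D hDab hmemD hZ hDmin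
    obtain ⟨p, hp, hexp⟩ := CfsgLib.DegreeGraph.exists_exponent D hDab hDne hDmin
    have hker : ∀ {g : G}, π g = 1 → g ∈ K := fun {g} h => (QuotientGroup.eq_one_iff g).1 h
    refine ⟨D.comap π, K, p, (inferInstance : D.Normal).comap π, hKn, hp, fun k hk => ?_,
      fun a ha => hker (by rw [map_pow]; exact hexp _ ha), fun h => hDne ?_,
      fun a ha b hb => hker (by rw [hπc, hDab _ ha _ hb]; group),
      fun x y => by rw [Subgroup.mem_comap, hπc]; exact hmemD _ _,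
      fun x hx a ha h => hker (hfp (π x) hx (π a) ha ?_), fun h => hxy ?_⟩
    · rw [Subgroup.mem_comap, hπ, QuotientGroup.mk'_apply, (QuotientGroup.eq_one_iff k).2 hk]
      exact one_mem _
    · rw [← Subgroup.map_comap_eq_self_of_surjective hπs D, Subgroup.map_eq_bot_iff, hπ,
        QuotientGroup.ker_mk']
      exact h
    · have h' : π (x * a * x⁻¹ * a⁻¹) = 1 := (QuotientGroup.eq_one_iff _).2 h
      rwa [hπc, mul_inv_eq_one, mul_inv_eq_iff_eq_mul] at h'
    · refine (QuotientGroup.eq_one_iff _).1 ?_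
      show π _ = 1
      have hx : π x₀ ∈ D := (h ▸ Subgroup.mem_top x₀ : x₀ ∈ D.comap π)
      have hy : π y₀ ∈ D := (h ▸ Subgroup.mem_top y₀ : y₀ ∈ D.comap π)
      rw [hπc, hDab _ hx _ hy]
      group
  · -- a `p`-group
    left
    have hcen : ∀ a b : G ⧸ K, a * b * a⁻¹ * b⁻¹ ∈ Subgroup.center (G ⧸ K) := hbig' _ inferInstance hZ
    haveI hnil : Group.IsNilpotent (G ⧸ K) := by
      let ρ := QuotientGroup.mk' (Subgroup.center (G ⧸ K))
      letI : CommGroup ((G ⧸ K) ⧸ Subgroup.center (G ⧸ K)) :=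
        { (inferInstance : Group ((G ⧸ K) ⧸ Subgroup.center (G ⧸ K))) with
          mul_comm := fun a b => QuotientGroup.induction_on a fun x => QuotientGroup.induction_on b fun y => by
            rw [← QuotientGroup.mk_mul, ← QuotientGroup.mk_mul, QuotientGroup.eq]
            have h := hcen y⁻¹ x⁻¹
            simpa [mul_assoc] using h }
      exact Subgroup.isNilpotent_of_ker_le_center ρ (le_of_eq (QuotientGroup.ker_mk' _))
    set p := (Nat.card D).minFac with hpdef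
    have hp : p.Prime := Nat.minFac_prime fun h => hDne (Subgroup.card_eq_one.1 h)
    refine ⟨K, p, hKn, hp, fun r hr hd => ?_, x₀, y₀, hxy⟩
    haveI := Fact.mk hr
    haveI := Fact.mk hp
    obtain ⟨R⟩ : Nonempty (Sylow r (G ⧸ K)) := inferInstance
    have hRn : (R : Subgroup (G ⧸ K)).Normal := inferInstance
    have hR1 : (R : Subgroup (G ⧸ K)) ≠ ⊥ := R.ne_bot_of_dvd_card (by rwa [← Subgroup.index_eq_card])
    have hDR : D ≤ (R : Subgroup (G ⧸ K)) := by
      rw [hD, _root_.commutator_def, Subgroup.commutator_le]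
      exact fun a _ b _ => hbig' _ hRn hR1 a b
    obtain ⟨j, hj⟩ := IsPGroup.iff_card.1 R.2
    have hpR : p ∣ Nat.card (R : Subgroup (G ⧸ K)) :=
      (Nat.minFac_dvd (Nat.card D)).trans (Subgroup.card_dvd_of_le hDR)
    rw [hj] at hpR
    exact ((Nat.prime_dvd_prime_iff_eq hp hr).1 (hp.dvd_of_dvd_pow hpR)).symm

theorem exists_nonlinear {H : Type*} [Group H] [Finite H] (h : ∃ x y : H, x * y ≠ y * x) :
    ∃ χ : Cfsg.IrrCharacter H, Cfsg.charDegree (χ : H → ℂ) ≠ 1 := by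
  by_contra! hall
  obtain ⟨x, y, hxy⟩ := h
  exact hxy (comm_of_forall_linear hall x y)

theorem charDegree_dvd_index_of_comm {H : Type*} [Group H] [Finite H] (A : Subgroup H) [A.Normal]
    (hA : ∀ a b : A, a * b = b * a) (χ : Cfsg.IrrCharacter H) :
    Cfsg.charDegree (χ : H → ℂ) ∣ A.index := by
  haveI := Fintype.ofFinite H
  haveI := Fintype.ofFinite A
  obtain ⟨θ, hθ⟩ := Clifford.exists_constituent
    (IsChar.isClassFunction (IsChar.restrict A (IsIrr.isCharacter χ.2))) fun h =>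
      IsIrr.apply_one_ne_zero χ.2 (by simpa using congrFun h 1)
  have h := (CfsgLib.ThreeDegrees.degree_dvd_of_over A χ θ hθ).2
  rwa [charDegree_of_comm hA θ, Nat.div_one] at h

/-- The case of a nonabelian quotient of prime power order. -/
theorem degrees_eq_of_pGroup {X : Type*} [Group X] [Finite X] (hnd : NonDiv X) {q : ℕ} (hq : q.Prime)
    (hqdeg : ∀ χ : Cfsg.IrrCharacter X, Cfsg.charDegree (χ : X → ℂ) ≠ 1 → q ∣ Cfsg.charDegree (χ : X → ℂ))
    {K : Subgroup X} [K.Normal] {p : ℕ} (hidx : ∀ r : ℕ, r.Prime → r ∣ K.index → r = p)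
    (hna : ∃ x y : X, x * y * x⁻¹ * y⁻¹ ∉ K) :
    ∀ a ∈ Cfsg.charDegrees X, ∀ b ∈ Cfsg.charDegrees X, a ≠ 1 → b ≠ 1 → a = b := by
  haveI := Fintype.ofFinite X
  -- a nonlinear character of the quotient
  obtain ⟨β, hβ⟩ : ∃ β : Cfsg.IrrCharacter (X ⧸ K), Cfsg.charDegree (β : X ⧸ K → ℂ) ≠ 1 := by
    refine exists_nonlinear ?_
    obtain ⟨x, y, hxy⟩ := hna
    refine ⟨(x : X ⧸ K), (y : X ⧸ K), fun h => hxy ((QuotientGroup.eq_one_iff _).1 ?_)⟩
    simp only [QuotientGroup.mk_mul, QuotientGroup.mk_inv]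
    rw [mul_inv_eq_one, mul_inv_eq_iff_eq_mul]
    exact h
  have hqK : q ∣ K.index := by
    rw [Subgroup.index_eq_card]
    exact (hqdeg (infl K β) (by rw [charDegree_infl]; exact hβ)).trans
      (by rw [charDegree_infl]; exact charDegree_dvd_card β)
  have hqp : ∀ r : ℕ, r.Prime → r ∣ K.index → r = q := fun r hr hd =>
    (hidx r hr hd).trans (hidx q hq hqK).symm
  obtain ⟨R, hRn, hRc, k, hRk⟩ := Cfsg.Agent.S4456.result q hq hqdeg
  haveI := hRn
  have hRK : R ≤ K := fun r hr => by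
    refine (QuotientGroup.eq_one_iff r).1 (orderOf_eq_one_iff.1 (by_contra fun h => ?_))
    obtain ⟨t, ht, htd⟩ := Nat.exists_prime_and_dvd h
    have h1 : t = q := hqp t ht (by
      rw [Subgroup.index_eq_card]; exact htd.trans (orderOf_dvd_natCard _))
    have h2 : orderOf (r : X ⧸ K) ∣ Nat.card R := orderOf_dvd_of_pow_eq_one (by
      rw [← QuotientGroup.mk_pow,
        show r ^ Nat.card R = 1 from congrArg Subtype.val (pow_card_eq_one' (x := (⟨r, hr⟩ : R))),
        QuotientGroup.mk_one])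
    subst h1
    exact ht.not_dvd_one (hRc ▸ Nat.dvd_gcd (htd.trans h2) dvd_rfl)
  by_cases hRab : ∀ a b : R, a * b = b * a
  · intro a ha b hb ha1 hb1
    obtain ⟨χ, rfl⟩ := ha
    obtain ⟨χ', rfl⟩ := hb
    obtain ⟨i, -, hi⟩ := (Nat.dvd_prime_pow hq).1 (hRk ▸ charDegree_dvd_index_of_comm R hRab χ)
    obtain ⟨j, -, hj⟩ := (Nat.dvd_prime_pow hq).1 (hRk ▸ charDegree_dvd_index_of_comm R hRab χ')
    have h1 := charDegree_pos χ
    have h2 := charDegree_pos χ'
    rcases le_total i j with h | h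
    · exact hnd.eq_of_dvd ⟨χ, rfl⟩ ⟨χ', rfl⟩ (by omega) (hi ▸ hj ▸ pow_dvd_pow q h)
    · exact (hnd.eq_of_dvd ⟨χ', rfl⟩ ⟨χ, rfl⟩ (by omega) (hi ▸ hj ▸ pow_dvd_pow q h)).symm
  exfalso
  push Not at hRab
  obtain ⟨θ, hθ⟩ := exists_nonlinear hRab
  haveI := Fintype.ofFinite R
  set T := Clifford.inertia hRn (θ : R → ℂ) with hT
  have hle : R ≤ T := Clifford.le_inertia hRn (IsIrr.isClassFunction θ.2)
  haveI := Fintype.ofFinite T
  set N' := R.subgroupOf T with hN'
  haveI := Fintype.ofFinite N'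
  let e := Subgroup.subgroupOfEquivOfLe hle
  have hθ' : Cfsg.IsIrrCharacter N' fun x => (θ : R → ℂ) (e x) :=
    IsIrr.comp_surjective e.toMonoidHom e.surjective θ.2
  have hrel := Subgroup.relIndex_mul_index hle
  have hcardR : Nat.card N' = Nat.card R := Nat.card_congr e.toEquiv
  obtain ⟨ψ, ⟨hψ, hres, -⟩, -⟩ := Exceptional.canonical_extension (N := N') hθ'
    (d := Cfsg.charDegree (θ : R → ℂ))
    (fun g x => by
      have h := congrFun (Clifford.mem_inertia.1 g.2) (e x)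
      rw [Clifford.conjFn_apply] at h
      rw [← h]
      exact congrArg (θ : R → ℂ) (Subtype.ext rfl))
    (by simp [cast_irrDegree]) (by
      refine Nat.Coprime.coprime_dvd_left (?_ : N'.index ∣ R.index) ?_
      · exact Dvd.intro _ hrel
      obtain ⟨n, ρ, hρ, hρc⟩ := hθ'
      rw [← hρc, detOrder_eq, hRk]
      refine Nat.Coprime.pow_left k ((Nat.Coprime.symm ?_).mul_right (Nat.Coprime.symm ?_))
      · exact hRc.coprime_dvd_left (hcardR ▸ orderOf_dvd_of_pow_eq_one (hom_pow_card _))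
      · exact hRc.coprime_dvd_left (charDegree_dvd_card θ))
  let ψ' : Cfsg.IrrCharacter T := ⟨ψ, hψ⟩
  have hext : ∀ n : R, ψ (Subgroup.inclusion hle n) = (θ : R → ℂ) n := fun n =>
    (hres (e.symm n)).trans (congrArg (θ : R → ℂ) (e.apply_symm_apply n))
  have hData : ExtData R T θ ψ' := by
    refine ⟨hRn, hle, fun g => ?_, hext⟩
    rw [hT, Clifford.mem_inertia]
    constructor
    · intro h n n' hn
      rw [← congrFun h n, Clifford.conjFn_apply]
      exact congrArg (θ : R → ℂ) (Subtype.ext hn)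
    · intro h
      exact funext fun n => h n ⟨_, hRn.conj_mem n n.2 g⟩ rfl
  have hd : Cfsg.charDegree (θ : R → ℂ) * T.index ∈ Cfsg.charDegrees X :=
    ⟨hData.indIrr, hData.charDegree_indIrr⟩
  have hθ1 : 1 < Cfsg.charDegree (θ : R → ℂ) := by have := charDegree_pos θ; omega
  have hd1 : 1 < Cfsg.charDegree (θ : R → ℂ) * T.index := lt_of_lt_of_le hθ1
    (Nat.le_mul_of_pos_right _ (Nat.pos_of_ne_zero Subgroup.index_ne_zero_of_finite))
  have hψN : Cfsg.IsIrrCharacter N' fun x => ψ x := by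
    convert hθ' using 1
    exact funext fun x => hres x
  -- the inertia group is abelian modulo the complement
  have hab : ∀ a b : T ⧸ N', a * b = b * a := by
    refine comm_of_forall_linear fun γ => ?_
    have hirr := Gallagher.isIrr_twistBy (IsIrr.isCharacter hψ) hψN γ
    have hres' : Clifford.resTo hle (Gallagher.twistBy ψ (γ : T ⧸ N' → ℂ)) =
        (γ : T ⧸ N' → ℂ) 1 • (θ : R → ℂ) := funext fun n => by
      show Gallagher.twistBy ψ (γ : T ⧸ N' → ℂ) ((e.symm n : N') : T) = _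
      rw [Gallagher.twistBy_apply_coe, hres, e.apply_symm_apply]
      rfl
    have hind := Clifford.isIrr_indFun_of_over hRn θ.2 (fun g => Clifford.mem_inertia) hle hirr (by
      rw [hres', classInner_smul_left, classInner_irr_self, mul_one]
      exact IsIrr.apply_one_ne_zero γ.2)
    have hd' : Cfsg.charDegree (θ : R → ℂ) * T.index * Cfsg.charDegree (γ : T ⧸ N' → ℂ) ∈
        Cfsg.charDegrees X := ⟨⟨_, hind⟩, charDegree_eq_of_apply_one (by
      show Cfsg.indFun T (Gallagher.twistBy ψ (γ : T ⧸ N' → ℂ)) 1 = _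
      rw [indFun_apply_one, Gallagher.twistBy_apply, map_one,
        show (1 : T) = Subgroup.inclusion hle 1 from (map_one _).symm, hext,
        Nat.cast_mul, Nat.cast_mul, cast_irrDegree, cast_irrDegree]
      ring)⟩
    have h := hnd.eq_of_dvd hd hd' hd1 (dvd_mul_right _ _)
    exact (Nat.mul_eq_left (by omega)).1 h.symm
  let π := QuotientGroup.mk' R
  let Tb : Subgroup (X ⧸ R) := T.map π
  haveI := Fintype.ofFinite Tb
  have hTb : ∀ a b : Tb, a * b = b * a := by
    rintro ⟨_, a, ha, rfl⟩ ⟨_, b, hb, rfl⟩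
    refine Subtype.ext ?_
    have h := hab ((⟨a, ha⟩ : T) : T ⧸ N') ((⟨b, hb⟩ : T) : T ⧸ N')
    rw [← QuotientGroup.mk_mul, ← QuotientGroup.mk_mul, QuotientGroup.eq] at h
    show π a * π b = π b * π a
    rw [← map_mul, ← map_mul]
    exact QuotientGroup.eq.2 h
  let f : X ⧸ R →* X ⧸ K := QuotientGroup.map R K (MonoidHom.id X) hRK
  have hf : Function.Surjective f := fun c => by
    induction c using QuotientGroup.induction_on with
    | H x => exact ⟨(x : X ⧸ R), rfl⟩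
  let β' : Cfsg.IrrCharacter (X ⧸ R) := ⟨_, IsIrr.comp_surjective f hf β.2⟩
  have hβ' : Cfsg.charDegree (β' : X ⧸ R → ℂ) = Cfsg.charDegree (β : X ⧸ K → ℂ) :=
    charDegree_eq_of_apply_one (by
      show (β : X ⧸ K → ℂ) (f 1) = _
      rw [map_one, cast_irrDegree])
  obtain ⟨θb, hbound⟩ := exists_constituent_bound β' Tb
  rw [charDegree_of_comm hTb θb, mul_one, hβ',
    show Tb.index = T.index from Subgroup.index_map_eq T (QuotientGroup.mk'_surjective R)
      (by rw [QuotientGroup.ker_mk']; exact hle)] at hbound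
  have hbpow : Cfsg.charDegree (β : X ⧸ K → ℂ) ∣ q ^ k := by
    rw [← hRk, ← hβ', Subgroup.index_eq_card]
    exact charDegree_dvd_card β'
  obtain ⟨i, -, hi⟩ := (Nat.dvd_prime_pow hq).1 hbpow
  obtain ⟨j, -, hj⟩ := (Nat.dvd_prime_pow hq).1 (hRk ▸ Subgroup.index_dvd_of_le hle)
  have hij : i ≤ j := (Nat.pow_le_pow_iff_right hq.one_lt).1 (hi ▸ hj ▸ hbound)
  have hb0 := charDegree_pos β
  have h := hnd.eq_of_dvd (⟨infl K β, charDegree_infl K β⟩) hd (by omega)
    (hi ▸ hj ▸ (pow_dvd_pow q hij).mul_left _)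
  have hlt : T.index < Cfsg.charDegree (θ : R → ℂ) * T.index :=
    lt_mul_of_one_lt_left (Nat.pos_of_ne_zero Subgroup.index_ne_zero_of_finite) hθ1
  omega

/-- The nonlinear degrees are all equal. -/
theorem Setup.degrees_eq {X : Type*} [Group X] [Finite X] [Group.IsSolvable X] (S : Setup X) {q : ℕ}
    (hq : q.Prime) (hqdeg : ∀ χ : Cfsg.IrrCharacter X, Cfsg.charDegree (χ : X → ℂ) ≠ 1 →
      q ∣ Cfsg.charDegree (χ : X → ℂ)) :
    ∀ a ∈ Cfsg.charDegrees X, ∀ b ∈ Cfsg.charDegrees X, a ≠ 1 → b ≠ 1 → a = b := by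
  by_cases hna : ∃ x y : X, x * y ≠ y * x
  swap
  · push Not at hna
    rintro a ⟨χ, rfl⟩ b - ha -
    exact absurd (charDegree_of_comm hna χ) ha
  rcases dichotomy hna with ⟨K, p, hKn, -, hidx, hne⟩ | ⟨M, L, p, hM, hL, hp, h1, h2, h3, h4, h5, h6, h7⟩
  · haveI := hKn
    exact degrees_eq_of_pGroup S.nondiv hq hqdeg hidx hne
  let F : Frob S := ⟨M, L, hM, hL, p, hp, h1, h2, h3, h4, h5, h6, h7⟩
  obtain ⟨R, hRn, hRc, hRk⟩ := F.exists_complement
  have hR : Frob.IsCompl' F R := ⟨hRn, hRc, hRk⟩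
  have hab := Frob.comm_of_commutator_le hR (Frob.commutator_le_compl hR)
  have h : ∀ a ∈ Cfsg.charDegrees X, a ≠ 1 → a = F.M.index := by
    rintro a ⟨χ, rfl⟩ ha
    have := charDegree_pos χ
    exact S.nondiv.eq_of_dvd ⟨χ, rfl⟩ F.index_mem (by omega) (charDegree_dvd_index_of_comm F.M hab χ)
  intro a ha b hb ha1 hb1
  rw [h a ha ha1, h b hb hb1]

end CfsgLib.NoDiv
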