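import Cfsg.Agent.Lib.CharDegree.NoDiv.Setting

/-!
# The regular orbits on the linear characters of the Frobenius kernel
-/

set_option autoImplicit false

namespace CfsgLib.NoDiv

open CfsgLib.Char CfsgLib.CharDegree CfsgLib.CharExt CfsgLib.RelGraph
attribute [local instance 10000] MonoidHom.instCommGroup
attribute [-instance] MonoidHom.instPow MonoidHom.instInv MonoidHom.instDiv MonoidHom.mul MonoidHom.instZPow
attribute [local instance 20000] homOne

open scoped Classical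

variable {X : Type*} [Group X] [Finite X] {S : Setup X}

namespace Frob

variable (F : Frob S)

theorem s_not_dvd : ¬ S.s ∣ F.M.index :=
  S.hsdeg _ F.index_mem F.one_lt_index.ne'

theorem z_mem : S.z ∈ F.M := by
  obtain ⟨k, hk⟩ := S.hz
  have h1 : orderOf (S.z : X ⧸ F.M) ∣ S.s ^ k := orderOf_dvd_of_pow_eq_one (by
    rw [← QuotientGroup.mk_pow, hk, QuotientGroup.mk_one])
  have h2 : orderOf (S.z : X ⧸ F.M) ∣ F.M.index := by
    rw [Subgroup.index_eq_card]; exact orderOf_dvd_natCard _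
  have h3 : (S.s ^ k).Coprime F.M.index := ((S.hs.coprime_iff_not_dvd).2 F.s_not_dvd).pow_left k
  exact (QuotientGroup.eq_one_iff _).1 (orderOf_eq_one_iff.1 (Nat.eq_one_of_dvd_coprimes h3 h1 h2))

theorem sigma_mem : ∀ x, S.σ x ∈ F.M ↔ x ∈ F.M := by
  obtain ⟨χ, hχ, hker, hvan⟩ := F.exists_degree_index
  have hne : Cfsg.charDegree (χ : X → ℂ) ≠ 1 := by rw [hχ]; exact F.one_lt_index.ne'
  set J : Subgroup X := F.M ⊓ F.M.comap S.σ.toMonoidHom with hJ
  haveI : J.Normal := by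
    haveI : (F.M.comap S.σ.toMonoidHom).Normal := F.normalM.comap _
    exact Subgroup.normal_inf_normal _ _
  have hcomm : ∀ x y : X, x * y * x⁻¹ * y⁻¹ ∈ J := fun x y => ⟨F.habA x y, by
    show S.σ (x * y * x⁻¹ * y⁻¹) ∈ F.M
    simp only [map_mul, map_inv]
    exact F.habA _ _⟩
  have hle : F.M ≤ J := fun m hm => by
    by_contra hmJ
    obtain ⟨μ, hμJ, hμm⟩ := exists_linear_separating J hcomm hmJ
    have htw : twist χ μ = χ := irr_ext fun x => by
      rw [twist_apply]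
      by_cases hx : x ∈ J
      · rw [hμJ x hx, Units.val_one, mul_one]
      · have h0 : (χ : X → ℂ) x = 0 := by
          by_cases h1 : x ∈ F.M
          · rw [← S.hinv χ hne x]
            exact hvan _ fun h2 => hx ⟨h1, h2⟩
          · exact hvan x h1
        rw [h0, zero_mul]
    exact hμm (F.eq_one_of_ker μ (fun k hk => linear_eq_one_of_ker htw (hker k hk)) hm)
  have hsub : ∀ x ∈ F.M, S.σ x ∈ F.M := fun x hx => (hle hx).2
  let f : F.M → F.M := fun m => ⟨S.σ m, hsub m m.2⟩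
  have hf : Function.Surjective f := Finite.surjective_of_injective fun a b h =>
    Subtype.ext (S.σ.injective (congrArg Subtype.val h))
  intro x
  refine ⟨fun hx => ?_, hsub x⟩
  obtain ⟨m, hm⟩ := hf ⟨_, hx⟩
  have : (m : X) = x := S.σ.injective (congrArg Subtype.val hm)
  exact this ▸ m.2

/-- The automorphism on the kernel. -/
def σM : F.M ≃* F.M where
  toFun m := ⟨S.σ m, (F.sigma_mem m).2 m.2⟩
  invFun m := ⟨S.σ.symm m, (F.sigma_mem _).1 (by rw [MulEquiv.apply_symm_apply]; exact m.2)⟩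
  left_inv m := Subtype.ext (S.σ.symm_apply_apply _)
  right_inv m := Subtype.ext (S.σ.apply_symm_apply _)
  map_mul' a b := Subtype.ext (map_mul S.σ _ _)

theorem coe_σM (m : F.M) : (F.σM m : X) = S.σ m := rfl

/-- Composition with the automorphism. -/
def σh : (F.M →* ℂˣ) →* (F.M →* ℂˣ) where
  toFun l := l.comp F.σM.toMonoidHom
  map_one' := rfl
  map_mul' _ _ := rfl

theorem σh_apply (l : F.M →* ℂˣ) (m : F.M) : F.σh l m = l (F.σM m) := rfl

theorem σh_injective : Function.Injective F.σh := fun a b h => MonoidHom.ext fun m => by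
  have h1 := DFunLike.congr_fun h (F.σM.symm m)
  rwa [σh_apply, σh_apply, MulEquiv.apply_symm_apply] at h1

theorem σh_cj (g : X) (l : F.M →* ℂˣ) : F.σh (cj (S.σ g) l) = cj g (F.σh l) := MonoidHom.ext fun m => by
  rw [σh_apply, cj_apply, cj_apply, σh_apply]
  exact congrArg l (Subtype.ext (by simp [MulAut.conjNormal_apply, coe_σM]))

theorem nm_σh (l : F.M →* ℂˣ) : nm (F.σh l) = F.σh (nm l) := by
  haveI := Fintype.ofFinite (X ⧸ F.M)
  rw [nm_apply, nm_apply, map_prod]
  let τ : X ⧸ F.M ≃* X ⧸ F.M := QuotientGroup.congr F.M F.M S.σ (by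
    ext x
    rw [Subgroup.mem_map]
    exact ⟨fun ⟨y, hy, e⟩ => e ▸ (F.sigma_mem y).2 hy,
      fun hx => ⟨S.σ.symm x, (F.sigma_mem _).1 (by simpa using hx), by simp⟩⟩)
  refine Fintype.prod_equiv τ.toEquiv _ _ fun q => ?_
  rw [← σh_cj]
  refine congrArg _ (cj_congr ?_ l)
  rw [QuotientGroup.out_eq']
  conv_rhs => rw [← QuotientGroup.out_eq' q]
  rfl

/-- The linear characters trivial on the kernel of the section. -/
def V0 : Subgroup (F.M →* ℂˣ) where
  carrier := {l | ∀ n : F.M, (n : X) ∈ F.L → l n = 1}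
  one_mem' _ _ := rfl
  mul_mem' {a b} ha hb n hn := by rw [MonoidHom.mul_apply, ha n hn, hb n hn, one_mul]
  inv_mem' {a} ha n hn := by rw [MonoidHom.inv_apply, ha n hn, inv_one]

theorem cj_mem_V0 (g : X) {l : F.M →* ℂˣ} (hl : l ∈ F.V0) : cj g l ∈ F.V0 := fun n hn =>
  hl _ (by
    show ((MulAut.conjNormal g n : F.M) : X) ∈ F.L
    rw [MulAut.conjNormal_apply]; exact F.normalL.conj_mem _ hn g)

theorem pow_V0 {l : F.M →* ℂˣ} (hl : l ∈ F.V0) : l ^ F.p = 1 := MonoidHom.ext fun n => by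
  rw [MonoidHom.pow_apply, ← map_pow, MonoidHom.one_apply]
  exact hl _ (F.hexp n n.2)

theorem regular0 {l : F.M →* ℂˣ} (hl : l ∈ F.V0) {g : X} (hg : g ∉ F.M) (he : cj g l = l) : l = 1 := by
  refine MonoidHom.ext fun m => ?_
  obtain ⟨u, hu⟩ := F.exists_comm_mod hg m
  have h1 := hl _ (Subgroup.mem_subgroupOf.1 hu)
  have h2 : l (MulAut.conjNormal g u) = l u := DFunLike.congr_fun he u
  rw [map_mul, map_inv, map_mul, map_inv, h2, mul_inv_cancel, inv_one, one_mul] at h1
  exact h1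

theorem exists_V0_ne_one : ∃ l ∈ F.V0, l ≠ 1 := by
  obtain ⟨a, ha, haL⟩ := SetLike.not_le_iff_exists.1 F.hne
  obtain ⟨l, hlL, hla⟩ := exists_linear_separating (F.L.subgroupOf F.M)
    (fun x y : F.M => Subgroup.mem_subgroupOf.2 (by simpa using F.hab x x.2 y y.2))
    (x := (⟨a, ha⟩ : F.M)) (fun h => haL (Subgroup.mem_subgroupOf.1 h))
  exact ⟨l, fun n hn => hlL n hn, fun h => hla (by rw [h, MonoidHom.one_apply])⟩

/-- The action on `V0`. -/
def V0act (g : X) : Equiv.Perm F.V0 where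
  toFun l := ⟨cj g l.1, F.cj_mem_V0 g l.2⟩
  invFun l := ⟨cj g⁻¹ l.1, F.cj_mem_V0 _ l.2⟩
  left_inv l := Subtype.ext (cj_inv_cj g l.1)
  right_inv l := Subtype.ext (by
    show cj g (cj g⁻¹ l.1) = l.1
    rw [← cj_mul, inv_mul_cancel, cj_one])

theorem V0act_pow (g : X) (n : ℕ) (l : F.V0) : ((F.V0act g ^ n) l).1 = cj (g ^ n) l.1 := by
  induction n with
  | zero => rw [pow_zero, pow_zero, cj_one]; rfl
  | succ k ih =>
    rw [pow_succ' (F.V0act g), Equiv.Perm.mul_apply]
    show cj g ((F.V0act g ^ k) l).1 = _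
    rw [ih, ← cj_mul, ← pow_succ]

instance : Finite (F.M →* ℂˣ) := CfsgLib.CyclicTI.finite_hom F.M

theorem not_dvd : ¬ F.p ∣ F.M.index := by
  intro hd
  haveI := Fact.mk F.hp
  haveI := Fintype.ofFinite F.V0
  rw [Subgroup.index_eq_card] at hd
  obtain ⟨ā, hā⟩ := exists_prime_orderOf_dvd_card' F.p hd
  induction ā using QuotientGroup.induction_on with
  | H g =>
    have hg : g ∉ F.M := fun h => by
      rw [(QuotientGroup.eq_one_iff g).2 h, orderOf_one] at hā
      exact F.hp.ne_one hā.symm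
    have hgp : g ^ F.p ∈ F.M := by
      rw [← QuotientGroup.eq_one_iff, QuotientGroup.mk_pow, ← hā, pow_orderOf_eq_one]
    obtain ⟨l, hl, hl1⟩ := F.exists_V0_ne_one
    have hcard : F.p ∣ Fintype.card F.V0 := by
      rw [← Nat.card_eq_fintype_card]
      have h : orderOf (⟨l, hl⟩ : F.V0) = F.p := orderOf_eq_prime (Subtype.ext (F.pow_V0 hl))
        fun h => hl1 (congrArg Subtype.val h)
      exact h ▸ orderOf_dvd_natCard _
    obtain ⟨b, hb, hb1⟩ := Equiv.Perm.exists_fixed_point_of_prime' (n := 1) hcard (σ := F.V0act g)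
      (Equiv.ext fun v => Subtype.ext (by
        rw [pow_one, V0act_pow, cj_of_mem hgp]; rfl))
      (a := 1) (Subtype.ext (map_one (cj g)))
    exact hb1 (Subtype.ext (F.regular0 b.2 hg (congrArg Subtype.val hb)))

theorem isCyclic_quotient : IsCyclic (X ⧸ F.M) := by
  letI : CommGroup (X ⧸ F.M) := { (inferInstance : Group (X ⧸ F.M)) with
    mul_comm := fun a b => QuotientGroup.induction_on a fun x => QuotientGroup.induction_on b fun y => by
      rw [← QuotientGroup.mk_mul, ← QuotientGroup.mk_mul, QuotientGroup.eq]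
      have h := F.habA y⁻¹ x⁻¹
      simpa [mul_assoc] using h }
  obtain ⟨l, hl, hl1⟩ := F.exists_V0_ne_one
  haveI : Nontrivial F.V0 := ⟨⟨l, hl⟩, 1, fun h => hl1 (congrArg Subtype.val h)⟩
  let r : X →* MulAut F.V0 :=
    { toFun := fun g => { F.V0act g⁻¹ with map_mul' := fun a b => Subtype.ext (map_mul (cj g⁻¹) a.1 b.1) }
      map_one' := MulEquiv.ext fun v => Subtype.ext (by
        show cj (1 : X)⁻¹ v.1 = v.1
        rw [inv_one, cj_one])
      map_mul' := fun g h => MulEquiv.ext fun v => Subtype.ext (by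
        show cj (g * h)⁻¹ v.1 = cj g⁻¹ (cj h⁻¹ v.1)
        rw [mul_inv_rev, cj_mul]) }
  refine isCyclic_of_fpf (QuotientGroup.lift F.M r fun m hm => MonoidHom.mem_ker.2
    (MulEquiv.ext fun v => Subtype.ext (cj_of_mem (F.M.inv_mem hm) v.1))) fun a ha v hv => ?_
  induction a using QuotientGroup.induction_on with
  | H g =>
    have hg : g⁻¹ ∉ F.M := fun h => ha ((QuotientGroup.eq_one_iff g).2 (by simpa using h))
    exact Subtype.ext (F.regular0 v.2 hg (congrArg Subtype.val hv))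

theorem degree_inertia_mem (φ : Cfsg.IrrCharacter F.M) :
    Cfsg.charDegree (φ : F.M → ℂ) * (Clifford.inertia F.normalM (φ : F.M → ℂ)).index ∈
      Cfsg.charDegrees X := by
  haveI := Fintype.ofFinite X
  obtain ⟨ψ, hψ⟩ := exists_inertia_ext F.isCyclic_quotient φ
  exact ⟨hψ.indIrr, hψ.charDegree_indIrr⟩

theorem inertia_index_dvd (φ : Cfsg.IrrCharacter F.M) :
    (Clifford.inertia F.normalM (φ : F.M → ℂ)).index ∣ F.M.index :=
  Subgroup.index_dvd_of_le (Clifford.le_inertia _ (IsIrr.isClassFunction φ.2))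

/-- The linear characters of `p`-power order of trivial norm. -/
def V : Subgroup (F.M →* ℂˣ) where
  carrier := {l | IsR F.p l ∧ nm l = 1}
  one_mem' := ⟨⟨0, by simp⟩, map_one (nm (N := F.M))⟩
  mul_mem' ha hb := ⟨ha.1.mul hb.1, by rw [map_mul, ha.2, hb.2, one_mul]⟩
  inv_mem' ha := ⟨ha.1.inv, by rw [map_inv, ha.2]; exact inv_one (G := F.M →* ℂˣ)⟩

theorem mem_V {l : F.M →* ℂˣ} : l ∈ F.V ↔ IsR F.p l ∧ nm l = 1 := Iff.rfl

theorem cj_mem_V (g : X) {l : F.M →* ℂˣ} (hl : l ∈ F.V) : cj g l ∈ F.V :=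
  ⟨hl.1.cj g, by rw [nm_cj]; exact hl.2⟩

theorem σh_mem_V {l : F.M →* ℂˣ} (hl : l ∈ F.V) : F.σh l ∈ F.V :=
  ⟨hl.1.imp fun k hk => by rw [← map_pow, hk, map_one], by rw [nm_σh, hl.2, map_one]⟩

theorem div_mem_V (g : X) {l : F.M →* ℂˣ} (hl : IsR F.p l) : cj g l * l⁻¹ ∈ F.V :=
  ⟨(hl.cj g).mul hl.inv, by rw [map_mul, nm_cj, map_inv, mul_inv_cancel]⟩

theorem V0_le_V : F.V0 ≤ F.V := fun l hl => by
  refine ⟨⟨1, by rw [pow_one]; exact F.pow_V0 hl⟩, ?_⟩
  obtain ⟨g, hg⟩ := F.exists_notMem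
  refine F.regular0 ?_ hg (cj_nm g l)
  haveI := Fintype.ofFinite (X ⧸ F.M)
  rw [nm_apply]
  exact prod_mem fun q _ => F.cj_mem_V0 _ hl

theorem stab_eq {l : F.M →* ℂˣ} (hl : l ∈ F.V) (h1 : l ≠ 1) : stab (G := X) l = F.M := by
  haveI := Fintype.ofFinite X
  let θ : Cfsg.IrrCharacter F.M := ⟨_, isIrrCharacter_linear l⟩
  have hT : Clifford.inertia F.normalM (θ : F.M → ℂ) = stab (G := X) l := inertia_linear l
  have hd : (stab (G := X) l).index ∈ Cfsg.charDegrees X := by
    have h := F.degree_inertia_mem θ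
    rwa [hT, show Cfsg.charDegree (θ : F.M → ℂ) = 1 from charDegree_eq_of_apply_one (by simp [θ]),
      one_mul] at h
  have hdvd : (stab (G := X) l).index ∣ F.M.index := hT ▸ F.inertia_index_dvd θ
  have hle : F.M ≤ stab (G := X) l := fun m hm => cj_of_mem hm l
  by_cases h : (stab (G := X) l).index = 1
  · exfalso
    have hinv : ∀ g : X, cj g l = l := fun g => (Subgroup.index_eq_one.1 h ▸ Subgroup.mem_top g :)
    exact h1 (hl.1.eq_one F.hp F.not_dvd (by rw [← nm_eq_pow hinv]; exact hl.2))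
  · have h0 : (stab (G := X) l).index ≠ 0 := Subgroup.index_ne_zero_of_finite
    have he := S.nondiv.eq_of_dvd hd F.index_mem (by omega) hdvd
    refine le_antisymm ?_ hle
    have h2 := Subgroup.relIndex_mul_index hle
    rw [he] at h2
    exact Subgroup.relIndex_eq_one.1 (by simpa [F.one_lt_index.ne_bot] using
      (Nat.eq_of_mul_eq_mul_right (by have := F.one_lt_index; omega) (h2.trans (one_mul _).symm)))

theorem regular {l : F.M →* ℂˣ} (hl : l ∈ F.V) {g : X} (hg : g ∉ F.M) (he : cj g l = l) : l = 1 := by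
  by_contra h1
  exact hg (F.stab_eq hl h1 ▸ (he : g ∈ stab l))

/-- Averaging over the powers of an element outside the kernel. -/
theorem mem_of_div_mem {g : X} (hg : g ∉ F.M) {D : Subgroup (F.M →* ℂˣ)}
    (hD : ∀ d ∈ D, cj g d ∈ D) {ν : F.M →* ℂˣ} (hν : ν ∈ F.V) (h : cj g ν * ν⁻¹ ∈ D) : ν ∈ D := by
  set o := orderOf (g : X ⧸ F.M) with ho
  have hi : ∀ i : ℕ, cj (g ^ i) ν * ν⁻¹ ∈ D := by
    intro i
    induction i with
    | zero => rw [pow_zero, cj_one, mul_inv_cancel]; exact one_mem D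
    | succ k ih =>
      have h1 := D.mul_mem (hD _ ih) h
      rw [map_mul, map_inv, ← cj_mul, ← pow_succ] at h1
      convert h1 using 1
      rw [mul_assoc, inv_mul_cancel_left]
  set P := ∏ i ∈ Finset.range o, cj (g ^ i) ν with hP
  have hP1 : P = 1 := by
    refine F.regular (prod_mem fun i _ => F.cj_mem_V _ hν) hg ?_
    have ho' : cj (g ^ o) ν = ν := cj_of_mem
      ((QuotientGroup.eq_one_iff _).1 (by rw [QuotientGroup.mk_pow, ho, pow_orderOf_eq_one])) ν
    have h1 : cj g P * cj (g ^ 0) ν = ∏ i ∈ Finset.range (o + 1), cj (g ^ i) ν := by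
      rw [Finset.prod_range_succ' (fun i => cj (g ^ i) ν), hP, map_prod]
      congr 1
      exact Finset.prod_congr rfl fun i _ => by rw [← cj_mul, ← pow_succ]
    rw [Finset.prod_range_succ, ← hP, ho', pow_zero, cj_one] at h1
    exact mul_right_cancel h1
  have h2 : (ν⁻¹) ^ o ∈ D := by
    have h3 : P * (ν⁻¹) ^ o ∈ D := by
      rw [hP, ← Finset.card_range o, ← Finset.prod_const, Finset.card_range, ← Finset.prod_mul_distrib]
      exact prod_mem fun i _ => hi i
    rwa [hP1, one_mul] at h3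
  have hcop : o.Coprime (orderOf (ν⁻¹)) := by
    obtain ⟨k, hk⟩ := hν.1.inv
    refine Nat.Coprime.coprime_dvd_right (orderOf_dvd_of_pow_eq_one hk) (Nat.Coprime.pow_right k ?_)
    refine ((F.hp.coprime_iff_not_dvd).2 fun hd => F.not_dvd (hd.trans ?_)).symm
    rw [ho, Subgroup.index_eq_card]
    exact orderOf_dvd_natCard _
  obtain ⟨m, hm⟩ := exists_pow_eq_self_of_coprime hcop
  exact inv_mem_iff.1 (hm ▸ pow_mem h2 m)

theorem exists_sigma_conj (φ : Cfsg.IrrCharacter F.M)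
    (hne : Cfsg.charDegree (φ : F.M → ℂ) * (Clifford.inertia F.normalM (φ : F.M → ℂ)).index ≠ 1) :
    ∃ g : X, ∀ n, (φ : F.M → ℂ) (F.σM n) = (φ : F.M → ℂ) (MulAut.conjNormal g n) := by
  haveI := Fintype.ofFinite X
  haveI := Fintype.ofFinite F.M
  obtain ⟨ψ, hψ⟩ := exists_inertia_ext F.isCyclic_quotient φ
  have hc := hψ.classInner_restrict_indFun
  have hd : Cfsg.charDegree (hψ.indIrr : X → ℂ) ≠ 1 := by rw [hψ.charDegree_indIrr]; exact hne
  exact exists_conj_eq S.σ F.σM F.coe_σM φ hψ.indIrr (fun h => one_ne_zero (hc.symm.trans h))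
    (S.hinv _ hd)

theorem exists_sigma_conj_linear {l : F.M →* ℂˣ} (hl : l ∈ F.V) (h1 : l ≠ 1) :
    ∃ g : X, F.σh l = cj g l := by
  haveI := Fintype.ofFinite X
  let θ : Cfsg.IrrCharacter F.M := ⟨_, isIrrCharacter_linear l⟩
  obtain ⟨g, hg⟩ := F.exists_sigma_conj θ (by
    rw [show Clifford.inertia F.normalM (θ : F.M → ℂ) = stab (G := X) l from inertia_linear l,
      F.stab_eq hl h1, show Cfsg.charDegree (θ : F.M → ℂ) = 1 from charDegree_eq_of_apply_one (by simp [θ]),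
      one_mul]
    exact F.one_lt_index.ne')
  exact ⟨g, MonoidHom.ext fun n => Units.ext (hg n)⟩

section Nonlinear

variable {φ : Cfsg.IrrCharacter F.M} (hφ : Cfsg.charDegree (φ : F.M → ℂ) ≠ 1)
include hφ

theorem sigma_mem_of_inertia {g : X} (hg : g ∈ Clifford.inertia F.normalM (φ : F.M → ℂ)) :
    S.σ g * g⁻¹ ∈ F.M := by
  haveI := Fintype.ofFinite X
  obtain ⟨ψ, hψ⟩ := exists_inertia_ext F.isCyclic_quotient φ
  by_contra hm
  obtain ⟨μ, hμM, hμ⟩ := exists_linear_separating F.M F.habA hm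
  refine hμ (hψ.mul_linear_eq_indIrr (l := S.dσ μ) (fun n hn => ?_)
    (S.twist_sigma ?_ μ fun _ => rfl) g hg)
  · exact hμM _ (F.M.mul_mem ((F.sigma_mem n).2 hn) (F.M.inv_mem hn))
  · rw [hψ.charDegree_indIrr]
    exact fun h => hφ (Nat.eq_one_of_mul_eq_one_right h)

theorem exists_inertia_notMem :
    ∃ g : X, g ∈ Clifford.inertia F.normalM (φ : F.M → ℂ) ∧ g ∉ F.M := by
  by_contra! h
  have hT : Clifford.inertia F.normalM (φ : F.M → ℂ) = F.M :=
    le_antisymm h (Clifford.le_inertia _ (IsIrr.isClassFunction φ.2))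
  have hd := F.degree_inertia_mem φ
  rw [hT] at hd
  have he := S.nondiv.eq_of_dvd F.index_mem hd F.one_lt_index (dvd_mul_left _ _)
  exact hφ (Nat.eq_of_mul_eq_mul_right (by have := F.one_lt_index; omega) (he.symm.trans (one_mul _).symm))

theorem cj_mem_fixers {g : X} (hg : g ∈ Clifford.inertia F.normalM (φ : F.M → ℂ)) :
    ∀ d ∈ fixers φ, cj g d ∈ fixers φ := fun d (hd : twist φ d = φ) => irr_ext fun n => by
  have h1 : (φ : F.M → ℂ) (MulAut.conjNormal g n) = (φ : F.M → ℂ) n := by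
    rw [← congrFun (Clifford.mem_inertia.1 hg) n, Clifford.conjFn_apply]
    exact congrArg _ (Subtype.ext (MulAut.conjNormal_apply g n))
  have h2 := congrFun (congrArg Subtype.val hd) (MulAut.conjNormal g n)
  rw [twist_apply, h1] at h2
  rw [twist_apply, cj_apply]
  exact h2

/-- A nonlinear character of the kernel absorbs the regular linear characters. -/
theorem twist_eq_self {ν : F.M →* ℂˣ} (hν : ν ∈ F.V) : twist φ ν = φ := by
  have hψ : Cfsg.charDegree (twist φ ν : F.M → ℂ) ≠ 1 := by rw [charDegree_twist]; exact hφ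
  obtain ⟨g, hgφ, hg⟩ := F.exists_inertia_notMem hφ
  obtain ⟨h, hhψ, hh⟩ := F.exists_inertia_notMem hψ
  set ψ := twist φ ν with hψdef
  set ρ := cj g ν * ν⁻¹ with hρdef
  have hfg : ∀ n, (φ : F.M → ℂ) (MulAut.conjNormal g n) = (φ : F.M → ℂ) n := fun n => by
    rw [← congrFun (Clifford.mem_inertia.1 hgφ) n, Clifford.conjFn_apply]
    exact congrArg _ (Subtype.ext (MulAut.conjNormal_apply g n))
  have hFh : ∀ n, (ψ : F.M → ℂ) (MulAut.conjNormal h n) = (ψ : F.M → ℂ) n := fun n => by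
    rw [← congrFun (Clifford.mem_inertia.1 hhψ) n, Clifford.conjFn_apply]
    exact congrArg _ (Subtype.ext (MulAut.conjNormal_apply h n))
  have hk : g * h * g⁻¹ ∈ Clifford.inertia F.normalM (ψ : F.M → ℂ) := by
    have e : g * h * g⁻¹ = (g * h * g⁻¹ * h⁻¹) * h := by group
    rw [e]
    exact Subgroup.mul_mem _ (Clifford.le_inertia _ (IsIrr.isClassFunction ψ.2) (F.habA g h)) hhψ
  have hFk : ∀ n, (ψ : F.M → ℂ) (MulAut.conjNormal (g * h * g⁻¹) n) = (ψ : F.M → ℂ) n := fun n => by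
    rw [← congrFun (Clifford.mem_inertia.1 hk) n, Clifford.conjFn_apply]
    exact congrArg _ (Subtype.ext (MulAut.conjNormal_apply _ n))
  -- the conjugate of `ψ` by `g` is a twist fixed by `h`
  have hG : ∀ n, (ψ : F.M → ℂ) (MulAut.conjNormal g n) = (twist ψ ρ : F.M → ℂ) n := fun n => by
    rw [twist_apply, hψdef, twist_apply, twist_apply, hfg, hρdef, MonoidHom.mul_apply,
      MonoidHom.inv_apply, cj_apply, mul_assoc, ← Units.val_mul, mul_left_comm, mul_inv_cancel, mul_one]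
  have hρ : ρ ∈ F.V := F.div_mem_V g hν.1
  have hdiv : cj h ρ * ρ⁻¹ ∈ fixers ψ := by
    have h1 : twist ψ (cj h ρ) = twist ψ ρ := irr_ext fun n => by
      rw [← hG n, ← hFk (MulAut.conjNormal g n)]
      have e : MulAut.conjNormal (g * h * g⁻¹) (MulAut.conjNormal g n) =
          (MulAut.conjNormal g (MulAut.conjNormal h n) : F.M) := by
        rw [← MulAut.mul_apply, ← MulAut.mul_apply, ← map_mul, ← map_mul, inv_mul_cancel_right]
      rw [e, hG, twist_apply ψ ρ, twist_apply ψ (cj h ρ), hFh, cj_apply]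
    rw [mem_fixers, ← twist_twist, h1, twist_twist, mul_inv_cancel, twist_one]
  have hρD := F.mem_of_div_mem hh (F.cj_mem_fixers hψ hhψ) hρ hdiv
  rw [hψdef, fixers_twist] at hρD
  exact F.mem_of_div_mem hg (F.cj_mem_fixers hφ hgφ) hν hρD

theorem dvd_degree : F.p ∣ Cfsg.charDegree (φ : F.M → ℂ) := by
  obtain ⟨l, hl, hl1⟩ := F.exists_V0_ne_one
  haveI := Fact.mk F.hp
  rw [← orderOf_eq_prime (F.pow_V0 hl) hl1]
  exact orderOf_dvd_of_pow_eq_one (pow_charDegree_eq_one (F.twist_eq_self hφ (F.V0_le_V hl)))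

end Nonlinear

end Frob

end CfsgLib.NoDiv
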