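import Cfsg.Agent.Lib.CharDegree.NoDiv.Basics
import Cfsg.Agent.Lib.CharDegree.DegreeGraph.MaximalQuotient
import Mathlib.GroupTheory.Perm.Cycle.Type

/-!
# An automorphism fixing all nonlinear characters, and a Frobenius quotient
-/

set_option autoImplicit false

namespace CfsgLib.NoDiv

open CfsgLib.Char CfsgLib.CharDegree CfsgLib.CharExt CfsgLib.RelGraph
attribute [local instance 10000] MonoidHom.instCommGroup
attribute [-instance] MonoidHom.instPow MonoidHom.instInv MonoidHom.instDiv MonoidHom.mul MonoidHom.instZPow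
attribute [local instance 20000] homOne

open scoped Classical

/-- An automorphism of coprime order fixing the nonlinear characters, without fixed points on a section. -/
structure Setup (X : Type*) [Group X] where
  σ : X ≃* X
  K : Subgroup X
  normalK : K.Normal
  habK : ∀ x y : X, x * y * x⁻¹ * y⁻¹ ∈ K
  hKtop : K ≠ ⊤
  hσK : ∀ x, σ x ∈ K ↔ x ∈ K
  fpf : ∀ x, σ x * x⁻¹ ∈ K → x ∈ K
  s : ℕ
  hs : s.Prime
  z : X
  hz : ∃ k, z ^ s ^ k = 1
  hσs : ∀ x, σ^[s] x = z * x * z⁻¹
  hsdeg : ∀ d ∈ Cfsg.charDegrees X, d ≠ 1 → ¬ s ∣ d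
  nondiv : NonDiv X
  hinv : ∀ χ : Cfsg.IrrCharacter X, Cfsg.charDegree (χ : X → ℂ) ≠ 1 → ∀ x, (χ : X → ℂ) (σ x) = (χ : X → ℂ) x

/-- A Frobenius quotient with abelian complement. -/
structure Frob {X : Type*} [Group X] (S : Setup X) where
  M : Subgroup X
  L : Subgroup X
  normalM : M.Normal
  normalL : L.Normal
  p : ℕ
  hp : p.Prime
  hLM : L ≤ M
  hexp : ∀ a ∈ M, a ^ p ∈ L
  hne : ¬ M ≤ L
  hab : ∀ a ∈ M, ∀ b ∈ M, a * b * a⁻¹ * b⁻¹ ∈ L
  habA : ∀ x y : X, x * y * x⁻¹ * y⁻¹ ∈ M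
  hfpf : ∀ x, x ∉ M → ∀ a ∈ M, x * a * x⁻¹ * a⁻¹ ∈ L → a ∈ L
  hMtop : M ≠ ⊤

variable {X : Type*} [Group X] [Finite X] {S : Setup X}

theorem Setup.twist_sigma (S : Setup X) {χ : Cfsg.IrrCharacter X} (hχ : Cfsg.charDegree (χ : X → ℂ) ≠ 1)
    (μ : X →* ℂˣ) {ν : X →* ℂˣ} (hν : ∀ x, ν x = μ (S.σ x * x⁻¹)) : twist χ ν = χ := by
  refine irr_ext fun x => ?_
  have h1 := S.hinv (twist χ μ) (by rw [charDegree_twist]; exact hχ) x
  rw [twist_apply, twist_apply, S.hinv χ hχ] at h1
  rw [twist_apply, hν, map_mul, map_inv, Units.val_mul, ← mul_assoc, h1, mul_assoc, Units.mul_inv, mul_one]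

/-- The linear character `μ ∘ σ / μ`. -/
def Setup.dσ (S : Setup X) (μ : X →* ℂˣ) : X →* ℂˣ where
  toFun x := μ (S.σ x * x⁻¹)
  map_one' := by simp
  map_mul' x y := by
    simp only [map_mul, map_inv, mul_inv]
    exact mul_mul_mul_comm _ _ _ _

/-- A nonlinear character is fixed by the linear characters trivial on the fixed-point-free section. -/
theorem Setup.twist_of_trivial_K (S : Setup X) {χ : Cfsg.IrrCharacter X}
    (hχ : Cfsg.charDegree (χ : X → ℂ) ≠ 1) {ν : X →* ℂˣ} (hν : ∀ k ∈ S.K, ν k = 1) : twist χ ν = χ := by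
  haveI := S.normalK
  letI : CommGroup (X ⧸ S.K) := { (inferInstance : Group (X ⧸ S.K)) with
    mul_comm := fun a b => QuotientGroup.induction_on a fun x => QuotientGroup.induction_on b fun y => by
      rw [← QuotientGroup.mk_mul, ← QuotientGroup.mk_mul, QuotientGroup.eq]
      have h := S.habK y⁻¹ x⁻¹
      simpa [mul_assoc] using h }
  let d : X ⧸ S.K →* X ⧸ S.K :=
    QuotientGroup.map S.K S.K S.σ.toMonoidHom (fun k hk => (S.hσK k).2 hk) / MonoidHom.id _
  have hd : ∀ x : X, d (x : X ⧸ S.K) = ((S.σ x * x⁻¹ : X) : X ⧸ S.K) := fun x => by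
    simp [d, div_eq_mul_inv]
  have hinj : Function.Injective d := by
    rw [injective_iff_map_eq_one]
    intro a
    induction a using QuotientGroup.induction_on with
    | H x =>
      intro hx
      rw [hd, QuotientGroup.eq_one_iff] at hx
      exact (QuotientGroup.eq_one_iff x).2 (S.fpf x hx)
  let e := MulEquiv.ofBijective d (Finite.injective_iff_bijective.1 hinj)
  let μ : X →* ℂˣ := ((QuotientGroup.lift S.K ν fun k hk => MonoidHom.mem_ker.2 (hν k hk)).comp
    e.symm.toMonoidHom).comp (QuotientGroup.mk' S.K)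
  refine S.twist_sigma hχ μ fun x => ?_
  show ν x = (QuotientGroup.lift S.K ν fun k hk => MonoidHom.mem_ker.2 (hν k hk))
    (e.symm ((S.σ x * x⁻¹ : X) : X ⧸ S.K))
  rw [← hd, show d (x : X ⧸ S.K) = e (x : X ⧸ S.K) from rfl, e.symm_apply_apply]
  rfl

namespace Frob

variable (F : Frob S)

instance : F.M.Normal := F.normalM
instance : F.L.Normal := F.normalL

theorem one_lt_index : 1 < F.M.index := by
  have h1 : F.M.index ≠ 1 := fun h => F.hMtop (Subgroup.index_eq_one.1 h)
  have h0 : F.M.index ≠ 0 := Subgroup.index_ne_zero_of_finite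
  omega

theorem exists_notMem : ∃ g : X, g ∉ F.M := by
  by_contra! h
  exact F.hMtop (eq_top_iff.2 fun g _ => h g)

/-- Commutators with an element outside cover the section. -/
theorem exists_comm_mod {x : X} (hxM : x ∉ F.M) (m : F.M) :
    ∃ u : F.M, (MulAut.conjNormal x u * u⁻¹)⁻¹ * m ∈ F.L.subgroupOf F.M := by
  let Q := F.M ⧸ F.L.subgroupOf F.M
  letI : CommGroup Q := { (inferInstance : Group Q) with
    mul_comm := fun a b => QuotientGroup.induction_on a fun u => QuotientGroup.induction_on b fun v => by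
      rw [← QuotientGroup.mk_mul, ← QuotientGroup.mk_mul, QuotientGroup.eq, Subgroup.mem_subgroupOf]
      have h := F.hab _ (F.M.inv_mem v.2) _ (F.M.inv_mem u.2)
      simpa [mul_assoc] using h }
  let d : Q →* Q := QuotientGroup.map _ _ (MulAut.conjNormal x : MulAut F.M).toMonoidHom
    (fun c hc => by
      rw [Subgroup.mem_comap, Subgroup.mem_subgroupOf]
      show ((MulAut.conjNormal x c : F.M) : X) ∈ F.L
      rw [MulAut.conjNormal_apply]
      exact F.normalL.conj_mem _ hc x) / MonoidHom.id _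
  have hd : ∀ u : F.M, d (u : Q) = ((MulAut.conjNormal x u * u⁻¹ : F.M) : Q) := fun u => by
    simp [d, Q, div_eq_mul_inv]
  have hinj : Function.Injective d := by
    rw [injective_iff_map_eq_one]
    intro q
    induction q using QuotientGroup.induction_on with
    | H u =>
      intro hu
      rw [hd, QuotientGroup.eq_one_iff, Subgroup.mem_subgroupOf] at hu
      exact (QuotientGroup.eq_one_iff u).2 (Subgroup.mem_subgroupOf.2 (F.hfpf x hxM u u.2 (by
        simpa using hu)))
  obtain ⟨q, hq⟩ := (Finite.injective_iff_surjective.1 hinj) (m : Q)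
  induction q using QuotientGroup.induction_on with
  | H u =>
    rw [hd, QuotientGroup.eq] at hq
    exact ⟨u, hq⟩

/-- A linear character trivial on the kernel of the section is trivial on it. -/
theorem eq_one_of_ker (ν : X →* ℂˣ) (hL : ∀ k ∈ F.L, ν k = 1) {m : X} (hm : m ∈ F.M) : ν m = 1 := by
  obtain ⟨g, hg⟩ := F.exists_notMem
  obtain ⟨u, hu⟩ := F.exists_comm_mod hg ⟨m, hm⟩
  have h1 := hL _ (Subgroup.mem_subgroupOf.1 hu)
  simp only [Subgroup.coe_mul, Subgroup.coe_inv, MulAut.conjNormal_apply, map_mul, map_inv,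
    linear_comm ν, inv_one, one_mul] at h1
  exact h1

theorem exists_degree_index : ∃ χ : Cfsg.IrrCharacter X, Cfsg.charDegree (χ : X → ℂ) = F.M.index ∧
    (∀ k ∈ F.L, (χ : X → ℂ) k = (χ : X → ℂ) 1) ∧ ∀ x, x ∉ F.M → (χ : X → ℂ) x = 0 := by
  haveI := Fintype.ofFinite X
  haveI := Fintype.ofFinite F.M
  haveI := Fact.mk F.hp
  -- a nontrivial linear character of the section
  obtain ⟨a, ha, haL⟩ := SetLike.not_le_iff_exists.1 F.hne
  obtain ⟨l, hlL, hla⟩ := exists_linear_separating (F.L.subgroupOf F.M)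
    (fun x y : F.M => Subgroup.mem_subgroupOf.2 (by simpa using F.hab x x.2 y y.2))
    (x := (⟨a, ha⟩ : F.M)) (fun h => haL (Subgroup.mem_subgroupOf.1 h))
  let θ : Cfsg.IrrCharacter F.M := ⟨_, isIrrCharacter_linear l⟩
  obtain ⟨χ, hχ⟩ := CfsgLib.ThreeDegrees.exists_over F.M θ
  have hinertia : Clifford.inertia F.normalM (θ : F.M → ℂ) = F.M := by
    refine le_antisymm (fun x hx => ?_) (Clifford.le_inertia _ (IsIrr.isClassFunction θ.2))
    by_contra hxM
    rw [inertia_linear, mem_stab] at hx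
    obtain ⟨u, hu⟩ := F.exists_comm_mod hxM (⟨a, ha⟩ : F.M)
    have h1 := hlL _ hu
    have h2 : l (MulAut.conjNormal x u) = l u := DFunLike.congr_fun hx u
    rw [map_mul, map_inv, map_mul, map_inv, h2, mul_inv_cancel, inv_one, one_mul] at h1
    exact hla h1
  have hT : ∀ g, g ∈ F.M ↔ Clifford.conjFn F.normalM (θ : F.M → ℂ) g = θ := fun g => by
    rw [← Clifford.mem_inertia, hinertia]
  obtain ⟨ψ, hψ, hψc, -, hind⟩ := Clifford.exists_over_inertia F.normalM θ.2 hT le_rfl χ hχ
  have hψl : ψ = fun m => (l m : ℂ) := by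
    by_contra hne
    refine hψc ?_
    exact classInner_irr_of_ne (χ := ⟨ψ, hψ⟩) (ψ := θ) fun e => hne (congrArg Subtype.val e)
  subst hψl
  refine ⟨χ, charDegree_eq_of_apply_one ?_, fun k hk => ?_, fun x hx => ?_⟩
  · rw [← hind, indFun_apply_one, map_one, Units.val_one, mul_one]
  · rw [← hind, Clifford.indFun_coe_normal F.normalM _ ⟨k, F.hLM hk⟩,
      show (1 : X) = ((1 : F.M) : X) from rfl, Clifford.indFun_coe_normal F.normalM _ (1 : F.M)]
    refine congrArg _ (Finset.sum_congr rfl fun g _ => ?_)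
    rw [Clifford.conjFn_apply, Clifford.conjFn_apply]
    rw [hlL _ (Subgroup.mem_subgroupOf.2 (F.normalL.conj_mem k hk g))]
    congr 1
    refine (map_one l).symm.trans (congrArg l (Subtype.ext ?_))
    simp
  · rw [← hind]
    exact Clifford.indFun_eq_zero_off_normal F.normalM _ hx

theorem index_mem : F.M.index ∈ Cfsg.charDegrees X :=
  F.exists_degree_index.elim fun χ h => ⟨χ, h.1⟩

theorem le_K : F.M ≤ S.K := by
  haveI := S.normalK
  obtain ⟨χ, hχ, hker, -⟩ := F.exists_degree_index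
  intro m hm
  by_contra hmK
  obtain ⟨ν, hνK, hνm⟩ := exists_linear_separating S.K S.habK hmK
  have h1 : Cfsg.charDegree (χ : X → ℂ) ≠ 1 := by rw [hχ]; exact F.one_lt_index.ne'
  have hL : ∀ k ∈ F.L, ν k = 1 := fun k hk =>
    linear_eq_one_of_ker (S.twist_of_trivial_K h1 hνK) (hker k hk)
  exact hνm (F.eq_one_of_ker ν hL hm)

end Frob

end CfsgLib.NoDiv
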